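import Cfsg.Agent.H34.Ly.CertData

/-! Kernel check of the certificate. -/

set_option autoImplicit false
set_option maxRecDepth 100000

namespace Cfsg.Agent.H34.Ly

open Cfsg.Agent.Compute

theorem cert_len : cert.facts.length = 172 := by decide +kernel

theorem cert_ok : allN 172 (chk mlY rdata cert) = true := by decide +kernel

end Cfsg.Agent.H34.Ly
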