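import Cfsg.Agent.Compute.Chunk
import Cfsg.Agent.H34.Ly.CertData
import Cfsg.Agent.H34.Ly.ObjTables

/-! Kernel checks of the global tables. -/

set_option autoImplicit false
set_option maxRecDepth 100000

namespace Cfsg.Agent.H34.Ly

open Cfsg.Agent.Compute

theorem pts_ok : ptsOK objData.pts objData.npt = true := by decide +kernel

theorem ltab_ok0 : tabOK objData.pts objData.npt (mlY 0) (objData.ltab.getD 0 0) = true := by
  decide +kernel

theorem ltab_ok1 : tabOK objData.pts objData.npt (mlY 1) (objData.ltab.getD 1 0) = true := by
  decide +kernel

theorem ltab_ok2 : tabOK objData.pts objData.npt (mlY 2) (objData.ltab.getD 2 0) = true := by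
  decide +kernel

theorem ltab_ok3 : tabOK objData.pts objData.npt (mlY 3) (objData.ltab.getD 3 0) = true := by
  decide +kernel

theorem ltab_ok4 : tabOK objData.pts objData.npt (mlY 4) (objData.ltab.getD 4 0) = true := by
  decide +kernel

theorem ltab_ok5 : tabOK objData.pts objData.npt (mlY 5) (objData.ltab.getD 5 0) = true := by
  decide +kernel

theorem ltab_ok6 : tabOK objData.pts objData.npt (mlY 6) (objData.ltab.getD 6 0) = true := by
  decide +kernel

theorem ltab_ok7 : tabOK objData.pts objData.npt (mlY 7) (objData.ltab.getD 7 0) = true := by
  decide +kernel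

theorem codes_ok : allN objData.n objData.codesAt = true :=
  allN_of_chunks 2000 10 (by decide +kernel) (by
    intro k hk
    interval_cases k <;> decide +kernel)

/-- The base object is fixed by the conjugators. -/
noncomputable def fixOK (a : ℕ) : Bool :=
  (objData.along (rdata.kin.getD a []) objData.ob0).1 &&
    Nat.beq (objData.along (rdata.kin.getD a []) objData.ob0).2 objData.ob0

theorem misc_ok : (codeOK objData.npt objData.ob0 && allN 16 fixOK &&
    Nat.beq rdata.kin.length 16) = true := by
  decide +kernel

end Cfsg.Agent.H34.Ly
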