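import Cfsg.Agent.Compute.Chunk
import Cfsg.Agent.H34.Ly.CertData
import Cfsg.Agent.H34.Ly.ObjTables
import Cfsg.Agent.H34.Ly.Orb2Data

/-! Kernel checks of a coverage certificate. -/

set_option autoImplicit false
set_option maxRecDepth 100000

namespace Cfsg.Agent.H34.Ly

open Cfsg.Agent.Compute

theorem head2 : orb2.head mlY cert 2 = true := by decide +kernel

theorem ngens2 : orb2.gens.length = 2 := by decide +kernel

theorem otab_ok2_0 : tabOK objData.pts objData.npt (stabP cert (orb2.gens.getD 0 []))
    (orb2.tabs.getD 0 0) = true := by
  decide +kernel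

theorem otab_ok2_1 : tabOK objData.pts objData.npt (stabP cert (orb2.gens.getD 1 []))
    (orb2.tabs.getD 1 0) = true := by
  decide +kernel

theorem forest_ok2 : allN objData.n (orb2.at' objData) = true :=
  allN_of_chunks 2000 10 (by decide +kernel) (by
    intro k hk
    interval_cases k <;> decide +kernel)

end Cfsg.Agent.H34.Ly
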