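import Cfsg.Agent.Compute.Chunk
import Cfsg.Agent.H34.Ly.CertData
import Cfsg.Agent.H34.Ly.SubData

/-! Kernel checks of the subgroup enumerations. -/

set_option autoImplicit false
set_option maxRecDepth 100000

namespace Cfsg.Agent.H34.Ly

open Cfsg.Agent.Compute

/-- The generators, read from the multiplication table. -/
noncomputable def genLit (S : SubCert) : List ℕ :=
  (List.range S.ng).map fun a => S.el (look 16 S.tgt (Nat.add (Nat.mul S.one S.ng) a))

/-- The unit is present and the generators read from the table are the intended ones. -/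
noncomputable def subOK (S : SubCert) (gens : List ℕ) : Bool :=
  Nat.blt S.one S.n && Nat.beq (S.el S.one) one7 &&
    allN S.ng fun a => Nat.beq ((genLit S).getD a one7) (gens.getD a one7)

/-- All entries of an enumeration. -/
noncomputable def subAt (S : SubCert) (x : ℕ) : Bool := S.at' (genLit S) x

/-- Stabiliser words of a representative. -/
noncomputable def wordsOK (i : ℕ) (n : ℕ) (ws : List (List (ℕ × Bool))) : Bool :=
  Nat.beq ws.length n && ws.all fun s => stabOK cert 172 i s

theorem sub_okT2_0 : (wordsOK 2 subT2_0.ng wordsT2_0 &&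
    subOK subT2_0 (wordsT2_0.map (stabP cert)) && allN subT2_0.n (subAt subT2_0)) = true := by
  decide +kernel

theorem sub_okT2_1 : (wordsOK 2 subT2_1.ng wordsT2_1 &&
    subOK subT2_1 (wordsT2_1.map (stabP cert)) && allN subT2_1.n (subAt subT2_1)) = true := by
  decide +kernel

theorem sub_okT2_2 : (wordsOK 2 subT2_2.ng wordsT2_2 &&
    subOK subT2_2 (wordsT2_2.map (stabP cert)) && allN subT2_2.n (subAt subT2_2)) = true := by
  decide +kernel

theorem sub_okT3_0 : (wordsOK 3 subT3_0.ng wordsT3_0 &&
    subOK subT3_0 (wordsT3_0.map (stabP cert)) && allN subT3_0.n (subAt subT3_0)) = true := by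
  decide +kernel

theorem sub_okT3_1 : (wordsOK 3 subT3_1.ng wordsT3_1 &&
    subOK subT3_1 (wordsT3_1.map (stabP cert)) && allN subT3_1.n (subAt subT3_1)) = true := by
  decide +kernel

theorem sub_okT3_2 : (wordsOK 3 subT3_2.ng wordsT3_2 &&
    subOK subT3_2 (wordsT3_2.map (stabP cert)) && allN subT3_2.n (subAt subT3_2)) = true := by
  decide +kernel

theorem sub_okT4_0 : (wordsOK 4 subT4_0.ng wordsT4_0 &&
    subOK subT4_0 (wordsT4_0.map (stabP cert)) && allN subT4_0.n (subAt subT4_0)) = true := by
  decide +kernel

theorem sub_okT4_1 : (wordsOK 4 subT4_1.ng wordsT4_1 &&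
    subOK subT4_1 (wordsT4_1.map (stabP cert)) && allN subT4_1.n (subAt subT4_1)) = true := by
  decide +kernel

theorem sub_okT4_2 : (wordsOK 4 subT4_2.ng wordsT4_2 &&
    subOK subT4_2 (wordsT4_2.map (stabP cert)) && allN subT4_2.n (subAt subT4_2)) = true := by
  decide +kernel

theorem sub_okK5 : (Nat.beq kidxK5.length subK5.ng &&
    kidxK5.all (fun a => decide (a < rdata.kin.length)) &&
    subOK subK5 (kidxK5.map fun a => wmatL mlY (rdata.kin.getD a []))) = true := by
  decide +kernel

theorem sub_atK5 : allN subK5.n (subAt subK5) = true :=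
  allN_of_chunks 400 8 (by decide +kernel) (by
    intro k hk
    interval_cases k <;> decide +kernel)

theorem sub_okK96 : (Nat.beq kidxK96.length subK96.ng &&
    kidxK96.all (fun a => decide (a < rdata.kin.length)) &&
    subOK subK96 (kidxK96.map fun a => wmatL mlY (rdata.kin.getD a []))) = true := by
  decide +kernel

theorem sub_atK96 : allN subK96.n (subAt subK96) = true :=
  allN_of_chunks 400 8 (by decide +kernel) (by
    intro k hk
    interval_cases k <;> decide +kernel)

end Cfsg.Agent.H34.Ly
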