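import Cfsg.Agent.H34.Ly.Words
import Cfsg.Agent.H34.Ly.CheckCert
import Cfsg.Agent.H34.Ly.CheckObj
import Cfsg.Agent.H34.Ly.CheckSub
import Cfsg.Agent.H34.Ly.CheckOrb1
import Cfsg.Agent.H34.Ly.CheckOrb2
import Cfsg.Agent.H34.Ly.CheckOrb3
import Cfsg.Agent.H34.Ly.CheckOrb4

/-!
The presented Lyons group is finite: its subgroup `⟨a, b, c, d⟩` has index at most 8835156.
-/

set_option autoImplicit false
set_option maxRecDepth 100000
set_option linter.style.haveILetI false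

namespace Cfsg.Agent.H34.Ly

open Cfsg.Agent.Compute
open Cfsg.Agent.H27

theorem factsY_ok : ∀ f < cert.facts.length, Holds baseY gY (cert.fact f) :=
  holds_of_chk rholdY fun f hf => (allN_iff _ _).1 cert_ok f (by rwa [cert_len] at hf)

theorem objY : ObjHold baseY rdata objData where
  hn := by decide
  hpts := pts_ok
  hcodes := (allN_iff _ _).1 codes_ok
  hn0 := le_rfl
  hl a ha := by
    interval_cases a
    exacts [ltab_ok0, ltab_ok1, ltab_ok2, ltab_ok3, ltab_ok4, ltab_ok5, ltab_ok6, ltab_ok7]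
  hob := by
    have h := misc_ok
    simp only [Bool.and_eq_true] at h
    exact h.1.1
  hfix a ha := by
    have h := misc_ok
    simp only [Bool.and_eq_true, allN_iff, Nat.beq_eq] at h
    have ha' := h.1.2 a (h.2 ▸ ha)
    simp only [fixOK, Bool.and_eq_true, Nat.beq_eq] at ha'
    exact ha'

theorem dvd_of_subOK {S : SubCert} {gens : List ℕ} {T : Subgroup M7}
    (hone : subOK S gens = true) (hat : allN S.n (subAt S) = true)
    (hT : ∀ a < S.ng, Ok7 (gens.getD a one7) ∧ den (gens.getD a one7) ∈ T) :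
    S.n ∣ Nat.card T := by
  simp only [subOK, Bool.and_eq_true, allN_iff, Nat.beq_eq] at hone
  refine SubCert.dvd_card (gens := genLit S) (fun a ha => ?_) ?_ ((allN_iff _ _).1 hat)
  · rw [hone.2 a ha]; exact hT a ha
  · simp only [Bool.and_eq_true, Nat.beq_eq]
    exact hone.1

theorem dvd_tsub {i n : ℕ} {ws : List (List (ℕ × Bool))} {S : SubCert}
    (h : (wordsOK i S.ng ws && subOK S (ws.map (stabP cert)) && allN S.n (subAt S)) = true)
    (hn : S.n = n) : n ∣ Nat.card (baseY.Tsub (gY i)) := by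
  subst hn
  simp only [Bool.and_eq_true] at h
  refine dvd_of_subOK h.1.2 h.2 fun a ha => ?_
  simp only [wordsOK, Bool.and_eq_true, Nat.beq_eq, List.all_eq_true] at h
  obtain ⟨hlen, hall⟩ := h.1.1
  have ha' : a < ws.length := by omega
  rw [List.getD_eq_getElem _ _ (by simpa using ha'), List.getElem_map]
  obtain ⟨s1, s2⟩ := stabP_sound (B := baseY) (g := gY)
    (fun e he => factsY_ok e (by rw [cert_len]; exact he)) _ (hall _ (List.getElem_mem ha'))
  refine ⟨s1.1, s1.mem, ?_⟩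
  rw [← baseY.gam_eq_Gam s1]
  exact s2

/-- The subgroup of the conjugators. -/
noncomputable def kerK : Subgroup M7 :=
  Subgroup.closure {k | ∃ a < rdata.kin.length, k = den (wmatL mlY (rdata.kin.getD a []))}

theorem dvd_kerK {n : ℕ} {idx : List ℕ} {S : SubCert}
    (h : (Nat.beq idx.length S.ng && idx.all (fun a => decide (a < rdata.kin.length)) &&
      subOK S (idx.map fun a => wmatL mlY (rdata.kin.getD a []))) = true)
    (hat : allN S.n (subAt S) = true) (hn : S.n = n) : n ∣ Nat.card kerK := by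
  subst hn
  simp only [Bool.and_eq_true, Nat.beq_eq, List.all_eq_true, decide_eq_true_eq] at h
  refine dvd_of_subOK h.2 hat fun a ha => ?_
  have ha' : a < idx.length := by omega
  rw [List.getD_eq_getElem _ _ (by simpa using ha'), List.getElem_map]
  obtain ⟨a1, -⟩ := baseY.img_word (rholdY.vkin idx[a])
  exact ⟨a1.1, Subgroup.subset_closure ⟨_, h.1.2 _ (List.getElem_mem ha'), rfl⟩⟩

theorem card_kerK : 300000 ≤ Nat.card kerK :=
  Nat.le_of_dvd Nat.card_pos ((by norm_num : Nat.lcm 3125 96 = 300000) ▸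
    Nat.lcm_dvd (dvd_kerK sub_okK5 sub_atK5 rfl) (dvd_kerK sub_okK96 sub_atK96 rfl))

theorem kerK_le_tsub : kerK ≤ baseY.Tsub (gY 1) := by
  refine (Subgroup.closure_le _).2 ?_
  rintro k ⟨a, -, rfl⟩
  obtain ⟨a1, a2⟩ := baseY.img_word (rholdY.vkin a)
  obtain ⟨b1, b2⟩ := baseY.img_word (rholdY.vkimg a)
  obtain ⟨u1, u2⟩ := baseY.img_word rholdY.vu.1
  refine ⟨a1.mem, ?_⟩
  show baseY.cs (gY 1 * baseY.Gam (den (wmatL baseY.ml (rdata.kin.getD a [])))) = _
  rw [← baseY.gam_eq_Gam a1]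
  show baseY.cs (gY 1 * baseY.gam (wmatL baseY.ml (rdata.kin.getD a []))) = _
  rw [a2, rholdY.g1, baseY.cs_iff]
  have e : baseY.wg (rdata.kin.getD a []) =
      baseY.Z * baseY.wg (rdata.kimg.getD a []) * baseY.Z⁻¹ := by
    rw [← rholdY.hK, mul_assoc, mul_inv_cancel, mul_one]
  have e2 : baseY.Z * baseY.wg (rdata.kin.getD a []) * baseY.Z⁻¹ =
      baseY.wg rdata.uW * baseY.wg (rdata.kimg.getD a []) * (baseY.wg rdata.uW)⁻¹ := by
    rw [e, ← rholdY.hU]; simp [mul_assoc]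
  rw [e2, ← u2, ← b2]
  exact baseY.H.mul_mem (baseY.H.mul_mem (baseY.gam_mem u1) (baseY.gam_mem b1))
    (baseY.H.inv_mem (baseY.gam_mem u1))

theorem tsub1 : 300000 ≤ Nat.card (baseY.Tsub (gY 1)) :=
  card_kerK.trans (Subgroup.card_le_of_le kerK_le_tsub)

theorem tsub2 : 6048 ≤ Nat.card (baseY.Tsub (gY 2)) :=
  Nat.le_of_dvd Nat.card_pos ((by norm_num : Nat.lcm (Nat.lcm 32 27) 7 = 6048) ▸
    Nat.lcm_dvd (Nat.lcm_dvd (dvd_tsub sub_okT2_0 rfl) (dvd_tsub sub_okT2_1 rfl))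
      (dvd_tsub sub_okT2_2 rfl))

theorem tsub3 : 1008 ≤ Nat.card (baseY.Tsub (gY 3)) :=
  Nat.le_of_dvd Nat.card_pos ((by norm_num : Nat.lcm (Nat.lcm 16 9) 7 = 1008) ▸
    Nat.lcm_dvd (Nat.lcm_dvd (dvd_tsub sub_okT3_0 rfl) (dvd_tsub sub_okT3_1 rfl))
      (dvd_tsub sub_okT3_2 rfl))

theorem tsub4 : 2880 ≤ Nat.card (baseY.Tsub (gY 4)) :=
  Nat.le_of_dvd Nat.card_pos ((by norm_num : Nat.lcm (Nat.lcm 64 9) 5 = 2880) ▸
    Nat.lcm_dvd (Nat.lcm_dvd (dvd_tsub sub_okT4_0 rfl) (dvd_tsub sub_okT4_1 rfl))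
      (dvd_tsub sub_okT4_2 rfl))

theorem edges_lt : (cert.facts.all fun F => decide (F.j < 5)) = true := by decide +kernel

theorem cover_orb {O : OrbCert} {i n : ℕ} (hh : O.head mlY cert i = true)
    (hlen : O.gens.length = n)
    (htab : ∀ a < n, tabOK objData.pts objData.npt (stabP cert (O.gens.getD a []))
      (O.tabs.getD a 0) = true)
    (hat : allN objData.n (O.at' objData) = true) {m : M7} (hm : m ∈ baseY.imgSub) :
    ∃ j < 5, ∃ k ∈ baseY.imgSub,
      baseY.cs (gY i * baseY.Gam m * baseY.Z) = baseY.cs (gY j * baseY.Gam k) := by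
  subst hlen
  obtain ⟨f, hf, hed, k, hk, e⟩ :=
    cover rholdY objY factsY_ok hh htab ((allN_iff _ _).1 hat) card_kerK hm
  obtain ⟨-, e2, -⟩ := holds_edge (factsY_ok f hf) hed
  have hmem : cert.fact f ∈ cert.facts := by
    rw [Cert.fact, List.getD_eq_getElem _ _ hf]; exact List.getElem_mem hf
  exact ⟨_, of_decide_eq_true (List.all_eq_true.mp edges_lt _ hmem), _,
    baseY.imgSub.mul_mem e2.mem hk, e⟩

theorem hZY : ∀ i < 5, ∀ m ∈ baseY.imgSub, ∃ j < 5, ∃ k ∈ baseY.imgSub,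
    baseY.cs (gY i * baseY.Gam m * baseY.Z) = baseY.cs (gY j * baseY.Gam k) := by
  intro i hi m hm
  interval_cases i
  · refine ⟨1, by norm_num, 1, baseY.imgSub.one_mem, ?_⟩
    rw [baseY.Gam_one, mul_one, rholdY.g0, one_mul, rholdY.g1]
    have h := baseY.cs_mul (baseY.cs_of_mem (baseY.Gam_mem hm)) baseY.Z
    rwa [one_mul] at h
  · exact cover_orb head1 ngens1 (fun a ha => by
      interval_cases a
      exacts [otab_ok1_0, otab_ok1_1, otab_ok1_2, otab_ok1_3, otab_ok1_4, otab_ok1_5, otab_ok1_6])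
      forest_ok1 hm
  · exact cover_orb head2 ngens2 (fun a ha => by
      interval_cases a
      exacts [otab_ok2_0, otab_ok2_1]) forest_ok2 hm
  · exact cover_orb head3 ngens3 (fun a ha => by
      interval_cases a
      exacts [otab_ok3_0, otab_ok3_1, otab_ok3_2]) forest_ok3 hm
  · exact cover_orb head4 ngens4 (fun a ha => by
      interval_cases a
      exacts [otab_ok4_0, otab_ok4_1, otab_ok4_2, otab_ok4_3]) forest_ok4 hm

theorem zinvY : baseY.Z⁻¹ = baseY.Z * baseY.wg rdata.uI := by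
  rw [rholdY.hUI, ← rholdY.hU]
  simp

/-- Five sets covering everything, of bounded sizes. -/
theorem five_orbits {α : Type*} {A : ℕ → Set α} {p : α} (hcov : ∀ y, ∃ i < 5, y ∈ A i)
    (h0 : A 0 ⊆ {p}) (f0 : (A 0).Finite) (f1 : (A 1).Finite) (f2 : (A 2).Finite)
    (f3 : (A 3).Finite) (f4 : (A 4).Finite)
    (c1 : Nat.card (A 1) * 300000 ≤ 5859000000) (c2 : Nat.card (A 2) * 6048 ≤ 5859000000)
    (c3 : Nat.card (A 3) * 1008 ≤ 5859000000) (c4 : Nat.card (A 4) * 2880 ≤ 5859000000) :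
    Finite α ∧ Nat.card α ≤ 8835156 := by
  have hu : (Set.univ : Set α) = A 0 ∪ A 1 ∪ A 2 ∪ A 3 ∪ A 4 := by
    refine (Set.eq_univ_of_forall fun y => ?_).symm
    obtain ⟨i, hi, hy⟩ := hcov y
    simp only [Set.mem_union]
    interval_cases i <;> tauto
  have hfin : (Set.univ : Set α).Finite := by
    rw [hu]; exact (((f0.union f1).union f2).union f3).union f4
  refine ⟨Set.finite_univ_iff.1 hfin, ?_⟩
  rw [← Set.ncard_univ, hu]
  have n0 : (A 0).ncard ≤ 1 :=
    (Set.ncard_le_ncard h0 (Set.finite_singleton _)).trans (Set.ncard_singleton _).le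
  have u1 := Set.ncard_union_le (A 0) (A 1)
  have u2 := Set.ncard_union_le (A 0 ∪ A 1) (A 2)
  have u3 := Set.ncard_union_le (A 0 ∪ A 1 ∪ A 2) (A 3)
  have u4 := Set.ncard_union_le (A 0 ∪ A 1 ∪ A 2 ∪ A 3) (A 4)
  rw [Nat.card_coe_set_eq] at c1 c2 c3 c4
  omega

theorem index_bound :
    Finite (GY ⧸ LyG2.H4) ∧ LyG2.H4.index ≤ 8835156 := by
  classical
  show Finite (GY ⧸ baseY.H) ∧ baseY.H.index ≤ 8835156
  have hcov := orbC_cover baseY gY rholdY.g0 5 (by norm_num) rdata.uI rholdY.vu.2 zinvY gensY hZY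
  have h0 : orbC baseY gY 0 ⊆ {baseY.cs 1} := by
    rintro _ ⟨m, rfl⟩
    show baseY.cs (gY 0 * baseY.Gam (m : M7)) = baseY.cs 1
    rw [rholdY.g0, one_mul]
    exact baseY.cs_of_mem (baseY.Gam_mem m.2)
  obtain ⟨f1, c1⟩ := card_orbC baseY gY 1 _ tsub1
  obtain ⟨f2, c2⟩ := card_orbC baseY gY 2 _ tsub2
  obtain ⟨f3, c3⟩ := card_orbC baseY gY 3 _ tsub3
  obtain ⟨f4, c4⟩ := card_orbC baseY gY 4 _ tsub4
  have f0 := (Set.finite_singleton _).subset h0
  exact five_orbits hcov h0 f0 f1 f2 f3 f4 c1 c2 c3 c4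

theorem index_le : LyG2.H4.index ≤ 8835156 := index_bound.2

theorem finite_ly : Finite GY := by
  haveI := LyG2.card_H4_le.1
  haveI := index_bound.1
  exact Finite.of_equiv _ (Subgroup.groupEquivQuotientProdSubgroup (s := LyG2.H4)).symm

theorem card_ly_le : Nat.card GY ≤ 51765179004000000 := by
  rw [← LyG2.H4.index_mul_card]
  exact (Nat.mul_le_mul index_le LyG2.card_H4_le.2).trans (by norm_num)

end Cfsg.Agent.H34.Ly
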