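import Cfsg.Agent.Compute.MatRep

/-!
Orbit-level coset certificates for a group `G` with a subgroup `H` that is described by small
matrices and one further element `Z` (used for the presented Lyons group over `G₂(5)`).

A certificate is a list of facts `H gᵢ h Z = H gⱼ w` (edges) and `H gᵢ h = H gᵢ` (stabilisers),
each derived from earlier ones and the relations by a justification checked on matrices.
-/

set_option autoImplicit false

namespace Cfsg.Agent.H34.Ly

open Cfsg.Agent.Compute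

/-- Invertible `7 × 7` matrices over the field with five elements. -/
abbrev M7 : Type := GL (Fin 7) (ZMod 5)

/-- Soundness of packed `7 × 7` matrices. -/
noncomputable def snd7 : Sound (G := M7) (matOps 7 7 5) :=
  matSound 7 7 5 (by norm_num) (by norm_num) (by norm_num)

noncomputable def mm (a b : ℕ) : ℕ := (matOps 7 7 5).mul a b
noncomputable def one7 : ℕ := (matOps 7 7 5).one
noncomputable def den (a : ℕ) : M7 := snd7.den a
/-- Well-formed packed matrix. -/
def Ok7 (a : ℕ) : Prop := snd7.ok a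
noncomputable def invb (a b : ℕ) : Bool := (matOps 7 7 5).okInv a b

theorem den_one : den one7 = 1 := snd7.den_one
theorem ok_one : Ok7 one7 := snd7.ok_one

theorem den_mm {a b : ℕ} (ha : Ok7 a) (hb : Ok7 b) :
    den (mm a b) = den a * den b := snd7.den_mul ha hb

theorem ok_mm {a b : ℕ} (ha : Ok7 a) (hb : Ok7 b) :
    Ok7 (mm a b) := snd7.ok_mul ha hb

theorem invb_sound {a b : ℕ} (h : invb a b = true) :
    Ok7 a ∧ Ok7 b ∧ den b = (den a)⁻¹ := snd7.okInv_sound h

theorem den_inj {a b : ℕ} (ha : Ok7 a) (hb : Ok7 b) (h : den a = den b) :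
    a = b := by
  have := (snd7.eqv_iff ha hb).2 h
  exact Nat.eq_of_beq_eq_true this

attribute [irreducible] mm one7 den invb Ok7

/-- The subgroup of pairs generated by the letters. -/
def pairsOf {G : Type*} [Group G] (gl : ℕ → G) (ml : ℕ → ℕ) : Subgroup (G × M7) :=
  Subgroup.closure {p | ∃ i < 8, p = (gl i, den (ml i))}

/-- A group `G`, a subgroup `H` with eight letters (generators and inverses) known through
matrices, and a further element `Z`. -/
structure Base (G : Type*) [Group G] where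
  H : Subgroup G
  Z : G
  gl : ℕ → G
  ml : ℕ → ℕ
  gl_mem : ∀ i < 8, gl i ∈ H
  ok : ∀ i < 8, Ok7 (ml i)
  injL : ∀ g : G, (g, (1 : M7)) ∈ pairsOf gl ml → g = 1
  cardImg : Nat.card ((pairsOf gl ml).map (MonoidHom.snd G M7)) ≤ 5859000000

/-- The matrix of a word in the letters. -/
noncomputable def wmatL (ml : ℕ → ℕ) (w : List ℕ) : ℕ :=
  List.rec one7 (fun a _ ih => mm (ml a) ih) w

/-- All letters are valid. -/
def vw (w : List ℕ) : Bool := w.all (fun a => decide (a < 8))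

namespace Base

variable {G : Type*} [Group G] (B : Base G)

/-- The pairs (element of `H`, its matrix). -/
def pairs : Subgroup (G × M7) := pairsOf B.gl B.ml

/-- The matrices of `H`. -/
def Img (m : ℕ) : Prop := Ok7 m ∧ ∃ g, (g, den m) ∈ B.pairs

open Classical in
/-- The element of `H` with matrix `m`. -/
noncomputable def gam (m : ℕ) : G :=
  if h : ∃ g, (g, den m) ∈ B.pairs then Classical.choose h else 1

theorem uniq {g g' : G} {m : M7} (h : (g, m) ∈ B.pairs) (h' : (g', m) ∈ B.pairs) : g = g' := by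
  have := B.pairs.mul_mem h (B.pairs.inv_mem h')
  simp only [Prod.inv_mk, Prod.mk_mul_mk, mul_inv_cancel] at this
  exact mul_inv_eq_one.1 (B.injL _ this)

theorem pairs_mem {g : G} {m : M7} (h : (g, m) ∈ B.pairs) : g ∈ B.H := by
  have : B.pairs ≤ B.H.comap (MonoidHom.fst G M7) := by
    refine (Subgroup.closure_le _).2 ?_
    rintro p ⟨i, hi, rfl⟩
    exact B.gl_mem i hi
  exact this h

theorem gam_eq {g : G} {m : ℕ} (h : (g, den m) ∈ B.pairs) : B.gam m = g := by
  have hex : ∃ g, (g, den m) ∈ B.pairs := ⟨g, h⟩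
  rw [gam, dif_pos hex]
  exact B.uniq (Classical.choose_spec hex) h

theorem gam_pair {m : ℕ} (h : B.Img m) : (B.gam m, den m) ∈ B.pairs := by
  obtain ⟨g, hg⟩ := h.2
  rwa [B.gam_eq hg]

theorem gam_mem {m : ℕ} (h : B.Img m) : B.gam m ∈ B.H := B.pairs_mem (B.gam_pair h)

theorem img_one : B.Img one7 := ⟨ok_one, 1, by rw [den_one]; exact B.pairs.one_mem⟩

theorem gam_one : B.gam one7 = 1 := B.gam_eq (by rw [den_one]; exact B.pairs.one_mem)

theorem img_mm {a b : ℕ} (ha : B.Img a) (hb : B.Img b) :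
    B.Img (mm a b) ∧ B.gam (mm a b) = B.gam a * B.gam b := by
  have h : (B.gam a * B.gam b, den (mm a b)) ∈ B.pairs := by
    rw [den_mm ha.1 hb.1]
    exact B.pairs.mul_mem (B.gam_pair ha) (B.gam_pair hb)
  exact ⟨⟨ok_mm ha.1 hb.1, _, h⟩, B.gam_eq h⟩

theorem img_inv {a b : ℕ} (ha : B.Img a) (h : invb a b = true) :
    B.Img b ∧ B.gam b = (B.gam a)⁻¹ := by
  obtain ⟨-, hb, hd⟩ := invb_sound h
  have hp : ((B.gam a)⁻¹, den b) ∈ B.pairs := by
    rw [hd]; exact B.pairs.inv_mem (B.gam_pair ha)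
  exact ⟨⟨hb, _, hp⟩, B.gam_eq hp⟩

/-- The value of a word. -/
def wg (w : List ℕ) : G := List.rec 1 (fun a _ ih => B.gl a * ih) w

theorem img_word {w : List ℕ} (hw : vw w = true) :
    B.Img (wmatL B.ml w) ∧ B.gam (wmatL B.ml w) = B.wg w := by
  induction w with
  | nil => exact ⟨B.img_one, B.gam_one⟩
  | cons a t ih =>
    simp only [vw, List.all_cons, Bool.and_eq_true, decide_eq_true_eq] at hw
    obtain ⟨ht, hg⟩ := ih hw.2
    have hp : (B.gl a, den (B.ml a)) ∈ B.pairs := Subgroup.subset_closure ⟨a, hw.1, rfl⟩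
    have hl : B.Img (B.ml a) := ⟨B.ok a hw.1, _, hp⟩
    obtain ⟨h1, h2⟩ := B.img_mm hl ht
    refine ⟨h1, h2.trans ?_⟩
    rw [hg, B.gam_eq hp]
    rfl

theorem gam_inv_of_mul {a b : ℕ} (ha : B.Img a) (hb : B.Img b) (h : mm a b = one7) :
    B.gam b = (B.gam a)⁻¹ := by
  refine eq_inv_of_mul_eq_one_right ?_
  rw [← (B.img_mm ha hb).2, h, B.gam_one]

/-- The right coset `H x`, as a point of `G ⧸ H`. -/
def cs (x : G) : G ⧸ B.H := ((x⁻¹ : G) : G ⧸ B.H)

theorem cs_iff {x y : G} : B.cs x = B.cs y ↔ x * y⁻¹ ∈ B.H := by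
  rw [cs, cs, QuotientGroup.eq, inv_inv]

theorem cs_mul {x y : G} (h : B.cs x = B.cs y) (t : G) : B.cs (x * t) = B.cs (y * t) := by
  rw [cs_iff] at h ⊢
  simpa [mul_assoc] using h

theorem cs_mul_inv {x y t : G} (h : B.cs (x * t) = B.cs y) : B.cs x = B.cs (y * t⁻¹) := by
  simpa [mul_assoc] using B.cs_mul h t⁻¹

theorem cs_of_mem {x : G} (h : x ∈ B.H) : B.cs x = B.cs 1 := by
  rw [cs_iff]; simpa using h

end Base

/-- The relations: `kin_k Z = Z kimg_k`, `Z Z = u`, `∏ (Z seg) = 1` for every relator. -/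
structure RData where
  kin : List (List ℕ)
  kimg : List (List ℕ)
  uW : List ℕ
  uI : List ℕ
  segs : List (List (List ℕ))
  segI : List (List (List ℕ))
  defs : List (ℕ × ℕ × List ℕ)

def segProd {G : Type*} [Group G] (B : Base G) (S : List (List ℕ)) : G :=
  List.rec 1 (fun s _ ih => B.Z * B.wg s * ih) S

/-- The relations hold. -/
structure RHold {G : Type*} [Group G] (B : Base G) (R : RData) (g : ℕ → G) : Prop where
  vkin : ∀ k, vw (R.kin.getD k []) = true
  vkimg : ∀ k, vw (R.kimg.getD k []) = true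
  vu : vw R.uW = true ∧ vw R.uI = true
  hK : ∀ k, B.wg (R.kin.getD k []) * B.Z = B.Z * B.wg (R.kimg.getD k [])
  hU : B.Z * B.Z = B.wg R.uW
  hUI : B.wg R.uI = (B.wg R.uW)⁻¹
  hR : ∀ r, segProd B (R.segs.getD r []) = 1
  g0 : g 0 = 1
  g1 : g 1 = B.Z
  gdef : ∀ d ∈ R.defs, g d.2.1 = g d.1 * B.wg d.2.2 * B.Z

/-- A fact. -/
structure CFact where
  edge : Bool
  i : ℕ
  h : ℕ
  hi : ℕ
  j : ℕ
  w : ℕ
  wi : ℕ

/-- One application of an edge: `m = s · h_e · k`. -/
structure Step where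
  e : ℕ
  s : List (ℕ × Bool)
  k : List ℕ

/-- A justification. -/
structure Just where
  tag : ℕ
  a : ℕ
  b : ℕ
  word : List ℕ
  winv : List ℕ
  s : List (ℕ × Bool)
  k : List ℕ
  fw : List Step
  bw : List Step

/-- A certificate. -/
structure Cert where
  facts : List CFact
  justs : List Just

def dummyFact : CFact := ⟨false, 0, 0, 0, 0, 0, 0⟩
def dummyJust : Just := ⟨99, 0, 0, [], [], [], [], [], []⟩

def Cert.fact (C : Cert) (f : ℕ) : CFact := C.facts.getD f dummyFact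
def Cert.just (C : Cert) (f : ℕ) : Just := C.justs.getD f dummyJust

section Check

variable (ml : ℕ → ℕ) (R : RData) (C : Cert)

noncomputable def kinP (k : List ℕ) : ℕ :=
  List.rec one7 (fun a _ ih => mm (wmatL ml (R.kin.getD a [])) ih) k

noncomputable def kimgP (k : List ℕ) : ℕ :=
  List.rec one7 (fun a _ ih => mm (wmatL ml (R.kimg.getD a [])) ih) k

noncomputable def stabP (s : List (ℕ × Bool)) : ℕ :=
  List.rec one7 (fun a _ ih => mm (cond a.2 (C.fact a.1).h (C.fact a.1).hi) ih) s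

noncomputable def stabOK (f i : ℕ) (s : List (ℕ × Bool)) : Bool :=
  List.rec true (fun a _ ih =>
    decide (a.1 < f) && !(C.fact a.1).edge && Nat.beq (C.fact a.1).i i &&
      (a.2 || invb (C.fact a.1).h (C.fact a.1).hi) && ih) s

noncomputable def stepOK (f i m : ℕ) (st : Step) : Bool :=
  Nat.beq i 0 || (decide (st.e < f) && (C.fact st.e).edge && Nat.beq (C.fact st.e).i i &&
    stabOK C f i st.s && Nat.beq m (mm (stabP C st.s) (mm (C.fact st.e).h (kinP ml R st.k))))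

noncomputable def stepJ (i : ℕ) (st : Step) : ℕ :=
  cond (Nat.beq i 0) 1 (C.fact st.e).j

noncomputable def stepW (i : ℕ) (st : Step) : ℕ :=
  cond (Nat.beq i 0) one7 (mm (C.fact st.e).w (kimgP ml R st.k))

/-- Forward trace. -/
noncomputable def fwd (f : ℕ) : List Step → List (List ℕ) → ℕ → ℕ → Bool × ℕ × ℕ
  | [], _, i, m => (true, i, m)
  | _ :: _, [], i, m => (false, i, m)
  | st :: sts, sg :: sgs, i, m =>
    cond (stepOK ml R C f i m st && vw sg)
      (fwd f sts sgs (stepJ C i st) (mm (stepW ml R C i st) (wmatL ml sg)))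
      (false, i, m)

/-- Backward trace (segments in reversed order, with their inverses). -/
noncomputable def bwd (f : ℕ) : List Step → List (List ℕ) → List (List ℕ) → ℕ → ℕ → Bool × ℕ × ℕ
  | [], [], _, i, m => (true, i, m)
  | st :: sts, sg :: sgs, si :: sis, i, m =>
    cond (vw sg && vw si && Nat.beq (mm (wmatL ml sg) (wmatL ml si)) one7 &&
        stepOK ml R C f i (mm m (wmatL ml si)) st)
      (bwd f sts sgs sis (stepJ C i st) (mm (stepW ml R C i st) (wmatL ml R.uI)))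
      (false, i, m)
  | _, _, _, i, m => (false, i, m)

noncomputable def chkRel (f : ℕ) : Bool :=
  let F := C.fact f
  let J := C.just f
  let S := R.segs.getD J.a []
  let SI := R.segI.getD J.a []
  let r := fwd ml R C f J.fw S J.b (wmatL ml J.word)
  vw J.word && vw J.winv && r.1 &&
  Nat.beq (mm (wmatL ml J.word) (wmatL ml J.winv)) one7 &&
  cond F.edge
    (let q := bwd ml R C f J.bw (S.drop (J.fw.length + 1)).reverse
        (SI.drop (J.fw.length + 1)).reverse J.b (wmatL ml J.word)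
     decide (J.fw.length < S.length) && q.1 &&
      vw (S.getD J.fw.length []) && vw (SI.getD J.fw.length []) &&
      Nat.beq (mm (wmatL ml (S.getD J.fw.length [])) (wmatL ml (SI.getD J.fw.length []))) one7 &&
      Nat.beq F.i r.2.1 && Nat.beq F.h r.2.2 && Nat.beq F.j q.2.1 &&
      Nat.beq F.w (mm q.2.2 (wmatL ml (SI.getD J.fw.length []))))
    (Nat.beq J.fw.length S.length && Nat.beq r.2.1 J.b && Nat.beq F.i J.b &&
      Nat.beq F.h (mm r.2.2 (wmatL ml J.winv)))

noncomputable def chkDef (f : ℕ) : Bool :=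
  let F := C.fact f
  let J := C.just f
  let d := R.defs.getD J.a (0, 0, [])
  F.edge && decide (J.a < R.defs.length) && Nat.beq F.i d.1 && Nat.beq F.j d.2.1 && vw d.2.2 &&
    Nat.beq F.h (wmatL ml d.2.2) && Nat.beq F.w one7

noncomputable def chkK (f : ℕ) : Bool :=
  let F := C.fact f
  let J := C.just f
  !F.edge && Nat.beq F.i 1 && Nat.beq F.h (wmatL ml (R.kin.getD J.a []))

noncomputable def chkZZ (f : ℕ) : Bool :=
  let F := C.fact f
  F.edge && Nat.beq F.i 1 && Nat.beq F.h one7 && Nat.beq F.j 0 && Nat.beq F.w (wmatL ml R.uW)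

noncomputable def chkMove (f : ℕ) : Bool :=
  let F := C.fact f
  let J := C.just f
  let E := C.fact J.a
  F.edge && decide (J.a < f) && E.edge && Nat.beq F.i E.i && Nat.beq F.j E.j &&
    stabOK C f F.i J.s && Nat.beq F.h (mm (stabP C J.s) (mm E.h (kinP ml R J.k))) &&
    Nat.beq F.w (mm E.w (kimgP ml R J.k))

noncomputable def chkRev (f : ℕ) : Bool :=
  let F := C.fact f
  let J := C.just f
  let E := C.fact J.a
  F.edge && decide (J.a < f) && E.edge && Nat.beq F.i E.j && Nat.beq F.j E.i &&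
    Nat.beq F.h E.w && Nat.beq F.w (mm E.h (wmatL ml R.uW))

noncomputable def chkTrans (f : ℕ) : Bool :=
  let F := C.fact f
  let J := C.just f
  let E := C.fact J.a
  !F.edge && decide (J.a < f) && E.edge && Nat.beq F.i E.j && invb E.w E.wi &&
    stabOK C f E.i J.s && Nat.beq (mm (stabP C J.s) E.h) (mm E.h (kinP ml R J.k)) &&
    Nat.beq F.h (mm E.w (mm (kimgP ml R J.k) E.wi))

noncomputable def chkClose (f : ℕ) : Bool :=
  let F := C.fact f
  let J := C.just f
  let A := C.fact J.a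
  let E := C.fact J.b
  !F.edge && decide (J.a < f) && decide (J.b < f) && A.edge && E.edge && Nat.beq A.i E.i &&
    Nat.beq A.h E.h && Nat.beq A.j E.j && Nat.beq F.i A.j && invb E.w E.wi &&
    Nat.beq F.h (mm A.w E.wi)

/-- The check of one fact. -/
noncomputable def chk (f : ℕ) : Bool :=
  match (C.just f).tag with
  | 0 => chkDef ml R C f
  | 1 => chkK ml R C f
  | 2 => chkZZ ml R C f
  | 3 => chkMove ml R C f
  | 4 => chkRev ml R C f
  | 5 => chkTrans ml R C f
  | 6 => chkClose C f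
  | 7 => chkRel ml R C f
  | _ => false

end Check

variable {G : Type*} [Group G] (B : Base G) (R : RData) (g : ℕ → G) (C : Cert)

/-- The meaning of a fact. -/
def Holds (F : CFact) : Prop :=
  if F.edge then B.Img F.h ∧ B.Img F.w ∧
    B.cs (g F.i * B.gam F.h * B.Z) = B.cs (g F.j * B.gam F.w)
  else B.Img F.h ∧ B.cs (g F.i * B.gam F.h) = B.cs (g F.i)

variable {B R g C}

theorem holds_edge {F : CFact} (h : Holds B g F) (he : F.edge = true) :
    B.Img F.h ∧ B.Img F.w ∧ B.cs (g F.i * B.gam F.h * B.Z) = B.cs (g F.j * B.gam F.w) := by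
  simpa [Holds, he] using h

theorem holds_stab {F : CFact} (h : Holds B g F) (he : F.edge = false) :
    B.Img F.h ∧ B.cs (g F.i * B.gam F.h) = B.cs (g F.i) := by
  simpa [Holds, he] using h

variable (hR : RHold B R g)
include hR

theorem kinP_sound (k : List ℕ) :
    B.Img (kinP B.ml R k) ∧ B.Img (kimgP B.ml R k) ∧
      B.gam (kinP B.ml R k) * B.Z = B.Z * B.gam (kimgP B.ml R k) := by
  induction k with
  | nil =>
    refine ⟨B.img_one, B.img_one, ?_⟩
    show B.gam one7 * B.Z = B.Z * B.gam one7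
    rw [B.gam_one, one_mul, mul_one]
  | cons a t ih =>
    obtain ⟨h1, h2, h3⟩ := ih
    obtain ⟨a1, a2⟩ := B.img_word (hR.vkin a)
    obtain ⟨b1, b2⟩ := B.img_word (hR.vkimg a)
    obtain ⟨p1, p2⟩ := B.img_mm a1 h1
    obtain ⟨q1, q2⟩ := B.img_mm b1 h2
    refine ⟨p1, q1, ?_⟩
    change B.gam (mm (wmatL B.ml (R.kin.getD a [])) (kinP B.ml R t)) * B.Z =
      B.Z * B.gam (mm (wmatL B.ml (R.kimg.getD a [])) (kimgP B.ml R t))
    rw [p2, q2, a2, b2, mul_assoc, h3, ← mul_assoc, hR.hK, mul_assoc]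

omit hR in
theorem stabP_sound {f i : ℕ} (hprev : ∀ e < f, Holds B g (C.fact e)) (s : List (ℕ × Bool))
    (h : stabOK C f i s = true) :
    B.Img (stabP C s) ∧ B.cs (g i * B.gam (stabP C s)) = B.cs (g i) := by
  induction s with
  | nil =>
    refine ⟨B.img_one, ?_⟩
    show B.cs (g i * B.gam one7) = _
    rw [B.gam_one, mul_one]
  | cons a t ih =>
    simp only [stabOK, Bool.and_eq_true, decide_eq_true_eq, Bool.not_eq_true',
      Bool.or_eq_true] at h
    obtain ⟨⟨⟨⟨hlt, hst⟩, hi⟩, hinv⟩, ht⟩ := h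
    obtain ⟨t1, t2⟩ := ih ht
    obtain ⟨a1, a2⟩ := holds_stab (hprev _ hlt) hst
    rw [Nat.eq_of_beq_eq_true hi] at a2
    have key : B.Img (cond a.2 (C.fact a.1).h (C.fact a.1).hi) ∧
        B.cs (g i * B.gam (cond a.2 (C.fact a.1).h (C.fact a.1).hi)) = B.cs (g i) := by
      cases hb : a.2
      · obtain ⟨b1, b2⟩ := B.img_inv a1 (hinv.resolve_left (by simp [hb]))
        refine ⟨b1, ?_⟩
        show B.cs (g i * B.gam (C.fact a.1).hi) = _
        rw [b2]
        exact (B.cs_mul_inv a2).symm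
      · exact ⟨a1, a2⟩
    obtain ⟨p1, p2⟩ := B.img_mm key.1 t1
    refine ⟨p1, ?_⟩
    change B.cs (g i * B.gam (mm (cond a.2 (C.fact a.1).h (C.fact a.1).hi) (stabP C t))) = _
    rw [p2, ← mul_assoc, B.cs_mul key.2, t2]

theorem step_sound {f i m : ℕ} (hprev : ∀ e < f, Holds B g (C.fact e)) (st : Step)
    (hm : B.Img m) (h : stepOK B.ml R C f i m st = true) :
    B.Img (stepW B.ml R C i st) ∧
      B.cs (g i * B.gam m * B.Z) =
        B.cs (g (stepJ C i st) * B.gam (stepW B.ml R C i st)) := by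
  cases hif : Nat.beq i 0
  case true =>
    have hi0 : i = 0 := Nat.eq_of_beq_eq_true hif
    subst hi0
    have hw : stepW B.ml R C 0 st = one7 := by
      rw [stepW, hif, cond_true]
    have hj : stepJ C 0 st = 1 := by
      rw [stepJ, hif, cond_true]
    rw [hw, hj, B.gam_one, mul_one, hR.g0, one_mul, hR.g1]
    refine ⟨B.img_one, ?_⟩
    have := B.cs_mul (B.cs_of_mem (B.gam_mem hm)) B.Z
    rwa [one_mul] at this
  case false =>
    rw [stepOK, hif, Bool.false_or] at h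
    simp only [Bool.and_eq_true, decide_eq_true_eq] at h
    obtain ⟨⟨⟨⟨hlt, he⟩, hie⟩, hs⟩, hmeq⟩ := h
    obtain ⟨e1, e2, e3⟩ := holds_edge (hprev _ hlt) he
    obtain ⟨s1, s2⟩ := stabP_sound hprev st.s hs
    obtain ⟨k1, k2, k3⟩ := kinP_sound hR st.k
    obtain ⟨q1, q2⟩ := B.img_mm e1 k1
    obtain ⟨r1, r2⟩ := B.img_mm s1 q1
    obtain ⟨w1, w2⟩ := B.img_mm e2 k2
    have hw : stepW B.ml R C i st = mm (C.fact st.e).w (kimgP B.ml R st.k) := by
      rw [stepW, hif, cond_false]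
    have hj : stepJ C i st = (C.fact st.e).j := by rw [stepJ, hif, cond_false]
    rw [hw, hj, Nat.eq_of_beq_eq_true hmeq, r2, q2, w2]
    rw [Nat.eq_of_beq_eq_true hie] at e3
    refine ⟨w1, ?_⟩
    calc B.cs (g i * (B.gam (stabP C st.s) *
          (B.gam (C.fact st.e).h * B.gam (kinP B.ml R st.k))) * B.Z)
        = B.cs (g i * B.gam (stabP C st.s) *
            (B.gam (C.fact st.e).h * (B.gam (kinP B.ml R st.k) * B.Z))) := by
          simp only [mul_assoc]
      _ = B.cs (g i * (B.gam (C.fact st.e).h * (B.gam (kinP B.ml R st.k) * B.Z))) :=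
          B.cs_mul s2 _
      _ = B.cs (g i * B.gam (C.fact st.e).h * B.Z * B.gam (kimgP B.ml R st.k)) := by
          rw [k3]; simp only [mul_assoc]
      _ = B.cs (g (C.fact st.e).j * B.gam (C.fact st.e).w * B.gam (kimgP B.ml R st.k)) :=
          B.cs_mul e3 _
      _ = _ := by rw [mul_assoc]

theorem fwd_sound {f : ℕ} (hprev : ∀ e < f, Holds B g (C.fact e)) :
    ∀ (sts : List Step) (S : List (List ℕ)) (i m : ℕ), B.Img m →
      (fwd B.ml R C f sts S i m).1 = true →
      sts.length ≤ S.length ∧ B.Img (fwd B.ml R C f sts S i m).2.2 ∧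
        B.cs (g i * B.gam m * segProd B (S.take sts.length)) =
          B.cs (g (fwd B.ml R C f sts S i m).2.1 * B.gam (fwd B.ml R C f sts S i m).2.2)
  | [], S, i, m, hm, _ => by
    refine ⟨Nat.zero_le _, hm, ?_⟩
    simp [fwd, segProd]
  | _ :: _, [], i, m, _, h => by simp [fwd] at h
  | st :: sts, sg :: sgs, i, m, hm, h => by
    cases hc : (stepOK B.ml R C f i m st && vw sg)
    · simp [fwd, hc] at h
    · simp only [fwd, hc, cond_true] at h ⊢
      rw [Bool.and_eq_true] at hc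
      obtain ⟨w1, w2⟩ := step_sound hR hprev st hm hc.1
      obtain ⟨g1, g2⟩ := B.img_word hc.2
      obtain ⟨p1, p2⟩ := B.img_mm w1 g1
      obtain ⟨hl, hI, hc'⟩ := fwd_sound hprev sts sgs _ _ p1 h
      refine ⟨by simpa using hl, hI, ?_⟩
      rw [← hc']
      change B.cs (g i * B.gam m * (B.Z * B.wg sg * segProd B (sgs.take sts.length))) =
        B.cs (g (stepJ C i st) *
          B.gam (mm (stepW B.ml R C i st) (wmatL B.ml sg)) * segProd B (sgs.take sts.length))
      rw [p2, g2]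
      simpa [mul_assoc] using B.cs_mul w2 (B.wg sg * segProd B (sgs.take sts.length))

omit hR in
theorem segProd_append (S T : List (List ℕ)) :
    segProd B (S ++ T) = segProd B S * segProd B T := by
  induction S with
  | nil => simp [segProd]
  | cons a t ih =>
    show B.Z * B.wg a * segProd B (t ++ T) = B.Z * B.wg a * segProd B t * segProd B T
    rw [ih]; simp [mul_assoc]

theorem bwd_sound {f : ℕ} (hprev : ∀ e < f, Holds B g (C.fact e)) :
    ∀ (sts : List Step) (S SI : List (List ℕ)) (i m : ℕ), B.Img m →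
      (bwd B.ml R C f sts S SI i m).1 = true →
      B.Img (bwd B.ml R C f sts S SI i m).2.2 ∧
        B.cs (g (bwd B.ml R C f sts S SI i m).2.1 * B.gam (bwd B.ml R C f sts S SI i m).2.2 *
          segProd B S.reverse) = B.cs (g i * B.gam m)
  | [], [], _, i, m, hm, _ => by
    refine ⟨by simpa [bwd] using hm, ?_⟩
    simp [bwd, segProd]
  | [], _ :: _, _, i, m, _, h => by simp [bwd] at h
  | _ :: _, [], _, i, m, _, h => by simp [bwd] at h
  | _ :: _, _ :: _, [], i, m, _, h => by simp [bwd] at h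
  | st :: sts, sg :: sgs, si :: sis, i, m, hm, h => by
    cases hc : (vw sg && vw si && Nat.beq (mm (wmatL B.ml sg) (wmatL B.ml si)) one7 &&
        stepOK B.ml R C f i (mm m (wmatL B.ml si)) st)
    · simp [bwd, hc] at h
    · simp only [bwd, hc, cond_true] at h ⊢
      simp only [Bool.and_eq_true] at hc
      obtain ⟨⟨⟨hsg, hsi⟩, hone⟩, hst⟩ := hc
      obtain ⟨g1, g2⟩ := B.img_word hsg
      obtain ⟨i1, i2⟩ := B.img_word hsi
      have hinv : B.gam (wmatL B.ml si) = (B.wg sg)⁻¹ := by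
        rw [← g2]; exact B.gam_inv_of_mul g1 i1 (Nat.eq_of_beq_eq_true hone)
      obtain ⟨m1, m2⟩ := B.img_mm hm i1
      obtain ⟨w1, w2⟩ := step_sound hR hprev st m1 hst
      obtain ⟨u1, u2⟩ := B.img_word hR.vu.2
      obtain ⟨p1, p2⟩ := B.img_mm w1 u1
      obtain ⟨hI, hc'⟩ := bwd_sound hprev sts sgs sis _ _ p1 h
      refine ⟨hI, ?_⟩
      rw [List.reverse_cons, segProd_append]
      have h3 : segProd B [sg] = B.Z * B.wg sg := by simp [segProd]
      rw [h3, ← mul_assoc _ (segProd B sgs.reverse), B.cs_mul hc']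
      change B.cs (g i * B.gam (mm m (wmatL B.ml si)) * B.Z) = _ at w2
      rw [m2, hinv] at w2
      rw [show B.gam (mm (stepW B.ml R C i st) (wmatL B.ml R.uI)) =
        B.gam (stepW B.ml R C i st) * B.wg R.uI from p2.trans (by rw [← u2])]
      have h4 := B.cs_mul w2 (B.Z⁻¹ * B.wg sg)
      simp only [mul_assoc, mul_inv_cancel_left, inv_mul_cancel, mul_one] at h4
      rw [h4]
      have hUI : B.wg R.uI * B.Z = B.Z⁻¹ := by
        rw [hR.hUI, ← hR.hU, mul_inv_rev, mul_assoc, inv_mul_cancel, mul_one]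
      simp only [← mul_assoc]
      rw [mul_assoc (g (stepJ C i st) * B.gam (stepW B.ml R C i st)) (B.wg R.uI) B.Z, hUI]

omit hR in
theorem gam_winv {w wi : List ℕ} (hw : vw w = true) (hwi : vw wi = true)
    (h : Nat.beq (mm (wmatL B.ml w) (wmatL B.ml wi)) one7 = true) :
    B.Img (wmatL B.ml wi) ∧ B.gam (wmatL B.ml wi) = (B.gam (wmatL B.ml w))⁻¹ :=
  ⟨(B.img_word hwi).1,
    B.gam_inv_of_mul (B.img_word hw).1 (B.img_word hwi).1 (Nat.eq_of_beq_eq_true h)⟩

theorem chkDef_sound {f : ℕ} (h : chkDef B.ml R C f = true) : Holds B g (C.fact f) := by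
  simp only [chkDef, Bool.and_eq_true, decide_eq_true_eq] at h
  obtain ⟨⟨⟨⟨⟨⟨he, hlt⟩, hi⟩, hj⟩, hv⟩, hh⟩, hw⟩ := h
  obtain ⟨a1, a2⟩ := B.img_word hv
  simp only [Holds, he, if_true, Nat.eq_of_beq_eq_true hi, Nat.eq_of_beq_eq_true hj,
    Nat.eq_of_beq_eq_true hh, Nat.eq_of_beq_eq_true hw]
  refine ⟨a1, B.img_one, ?_⟩
  rw [B.gam_one, mul_one, a2]
  have hmem : R.defs.getD (C.just f).a (0, 0, []) ∈ R.defs := by
    rw [List.getD_eq_getElem _ _ hlt]; exact List.getElem_mem hlt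
  rw [hR.gdef _ hmem]

theorem chkK_sound {f : ℕ} (h : chkK B.ml R C f = true) : Holds B g (C.fact f) := by
  simp only [chkK, Bool.and_eq_true, Bool.not_eq_true'] at h
  obtain ⟨⟨he, hi⟩, hh⟩ := h
  have hk := B.img_word (hR.vkin (C.just f).a)
  have hk' := B.img_word (hR.vkimg (C.just f).a)
  have hu := B.img_word hR.vu.1
  simp only [Holds, he, Nat.eq_of_beq_eq_true hi, Nat.eq_of_beq_eq_true hh]
  refine ⟨hk.1, ?_⟩
  rw [hk.2, hR.g1, B.cs_iff]
  have e : B.wg (R.kin.getD (C.just f).a []) =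
      B.Z * B.wg (R.kimg.getD (C.just f).a []) * B.Z⁻¹ := by
    rw [← hR.hK, mul_assoc, mul_inv_cancel, mul_one]
  have e2 : B.Z * B.wg (R.kin.getD (C.just f).a []) * B.Z⁻¹ =
      B.wg R.uW * B.wg (R.kimg.getD (C.just f).a []) * (B.wg R.uW)⁻¹ := by
    rw [e, ← hR.hU]; simp [mul_assoc]
  rw [e2, ← hu.2, ← hk'.2]
  exact B.H.mul_mem (B.H.mul_mem (B.gam_mem hu.1) (B.gam_mem hk'.1))
    (B.H.inv_mem (B.gam_mem hu.1))

theorem chkZZ_sound {f : ℕ} (h : chkZZ B.ml R C f = true) : Holds B g (C.fact f) := by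
  simp only [chkZZ, Bool.and_eq_true] at h
  obtain ⟨⟨⟨⟨he, hi⟩, hh⟩, hj⟩, hw⟩ := h
  obtain ⟨u1, u2⟩ := B.img_word hR.vu.1
  simp only [Holds, he, if_true, Nat.eq_of_beq_eq_true hi, Nat.eq_of_beq_eq_true hh,
    Nat.eq_of_beq_eq_true hj, Nat.eq_of_beq_eq_true hw]
  refine ⟨B.img_one, u1, ?_⟩
  rw [B.gam_one, u2, hR.g1, hR.g0, mul_one, one_mul, hR.hU]

theorem chkMove_sound {f : ℕ} (hprev : ∀ e < f, Holds B g (C.fact e))
    (h : chkMove B.ml R C f = true) : Holds B g (C.fact f) := by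
  simp only [chkMove, Bool.and_eq_true, decide_eq_true_eq] at h
  obtain ⟨⟨⟨⟨⟨⟨⟨he, hlt⟩, hee⟩, hi⟩, hj⟩, hs⟩, hh⟩, hw⟩ := h
  obtain ⟨e1, e2, e3⟩ := holds_edge (hprev _ hlt) hee
  obtain ⟨s1, s2⟩ := stabP_sound hprev _ hs
  obtain ⟨k1, k2, k3⟩ := kinP_sound hR (C.just f).k
  obtain ⟨q1, q2⟩ := B.img_mm e1 k1
  obtain ⟨r1, r2⟩ := B.img_mm s1 q1
  obtain ⟨w1, w2⟩ := B.img_mm e2 k2
  simp only [Holds, he, if_true, Nat.eq_of_beq_eq_true hh, Nat.eq_of_beq_eq_true hw,
    Nat.eq_of_beq_eq_true hj]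
  refine ⟨r1, w1, ?_⟩
  rw [r2, q2, w2, ← Nat.eq_of_beq_eq_true hi] at *
  have a := B.cs_mul s2 (B.gam (C.fact (C.just f).a).h *
    (B.gam (kinP B.ml R (C.just f).k) * B.Z))
  simp only [← mul_assoc] at a ⊢
  rw [a]
  rw [mul_assoc _ (B.gam (kinP B.ml R (C.just f).k)) B.Z, k3, ← mul_assoc, B.cs_mul e3,
    mul_assoc]

theorem chkRev_sound {f : ℕ} (hprev : ∀ e < f, Holds B g (C.fact e))
    (h : chkRev B.ml R C f = true) : Holds B g (C.fact f) := by
  simp only [chkRev, Bool.and_eq_true, decide_eq_true_eq] at h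
  obtain ⟨⟨⟨⟨⟨⟨he, hlt⟩, hee⟩, hi⟩, hj⟩, hh⟩, hw⟩ := h
  obtain ⟨e1, e2, e3⟩ := holds_edge (hprev _ hlt) hee
  obtain ⟨u1, u2⟩ := B.img_word hR.vu.1
  obtain ⟨w1, w2⟩ := B.img_mm e1 u1
  simp only [Holds, he, if_true, Nat.eq_of_beq_eq_true hh, Nat.eq_of_beq_eq_true hw,
    Nat.eq_of_beq_eq_true hi, Nat.eq_of_beq_eq_true hj]
  refine ⟨e2, w1, ?_⟩
  rw [B.cs_mul e3.symm, w2, u2, ← hR.hU]
  simp [mul_assoc]

theorem chkTrans_sound {f : ℕ} (hprev : ∀ e < f, Holds B g (C.fact e))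
    (h : chkTrans B.ml R C f = true) : Holds B g (C.fact f) := by
  simp only [chkTrans, Bool.and_eq_true, decide_eq_true_eq, Bool.not_eq_true'] at h
  obtain ⟨⟨⟨⟨⟨⟨⟨he, hlt⟩, hee⟩, hi⟩, hinv⟩, hs⟩, heq⟩, hh⟩ := h
  obtain ⟨e1, e2, e3⟩ := holds_edge (hprev _ hlt) hee
  obtain ⟨s1, s2⟩ := stabP_sound hprev _ hs
  obtain ⟨k1, k2, k3⟩ := kinP_sound hR (C.just f).k
  obtain ⟨v1, v2⟩ := B.img_inv e2 hinv
  obtain ⟨q1, q2⟩ := B.img_mm k2 v1
  obtain ⟨r1, r2⟩ := B.img_mm e2 q1
  have hc : B.gam (stabP C (C.just f).s) * B.gam (C.fact (C.just f).a).h =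
      B.gam (C.fact (C.just f).a).h * B.gam (kinP B.ml R (C.just f).k) := by
    rw [← (B.img_mm s1 e1).2, ← (B.img_mm e1 k1).2, Nat.eq_of_beq_eq_true heq]
  simp only [Holds, he, Nat.eq_of_beq_eq_true hh, Nat.eq_of_beq_eq_true hi]
  refine ⟨r1, ?_⟩
  rw [r2, q2, v2]
  set E := C.fact (C.just f).a
  have a : B.cs (g E.i * B.gam E.h * B.gam (kinP B.ml R (C.just f).k) * B.Z) =
      B.cs (g E.i * B.gam E.h * B.Z) := by
    have := B.cs_mul s2 (B.gam E.h * B.Z)
    rwa [← mul_assoc, mul_assoc (g E.i) (B.gam (stabP C (C.just f).s)) (B.gam E.h), hc,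
      ← mul_assoc, ← mul_assoc] at this
  rw [mul_assoc _ _ B.Z, k3, ← mul_assoc] at a
  have b : B.cs (g E.j * B.gam E.w * B.gam (kimgP B.ml R (C.just f).k)) =
      B.cs (g E.j * B.gam E.w) := (B.cs_mul e3 _).symm.trans (a.trans e3)
  have c := B.cs_mul b (B.gam E.w)⁻¹
  simpa [mul_assoc] using c

omit hR in
theorem chkClose_sound {f : ℕ} (hprev : ∀ e < f, Holds B g (C.fact e))
    (h : chkClose C f = true) : Holds B g (C.fact f) := by
  simp only [chkClose, Bool.and_eq_true, decide_eq_true_eq, Bool.not_eq_true'] at h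
  obtain ⟨⟨⟨⟨⟨⟨⟨⟨⟨⟨he, hla⟩, hlb⟩, hae⟩, hbe⟩, hi⟩, hh⟩, hj⟩, hf⟩, hinv⟩, hw⟩ := h
  obtain ⟨a1, a2, a3⟩ := holds_edge (hprev _ hla) hae
  obtain ⟨b1, b2, b3⟩ := holds_edge (hprev _ hlb) hbe
  rw [Nat.eq_of_beq_eq_true hi, Nat.eq_of_beq_eq_true hh, b3] at a3
  obtain ⟨v1, v2⟩ := B.img_inv b2 hinv
  obtain ⟨r1, r2⟩ := B.img_mm a2 v1
  simp only [Holds, he, Nat.eq_of_beq_eq_true hw, Nat.eq_of_beq_eq_true hf]
  refine ⟨r1, ?_⟩
  rw [← Nat.eq_of_beq_eq_true hj] at a3
  rw [r2, v2, ← mul_assoc, ← B.cs_mul a3 (B.gam (C.fact (C.just f).b).w)⁻¹]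
  simp [mul_assoc]

theorem chkRel_sound {f : ℕ} (hprev : ∀ e < f, Holds B g (C.fact e))
    (h : chkRel B.ml R C f = true) : Holds B g (C.fact f) := by
  simp only [chkRel, Bool.and_eq_true] at h
  obtain ⟨⟨⟨⟨hv, hvi⟩, hfw⟩, hone⟩, hc⟩ := h
  obtain ⟨s1, s2⟩ := B.img_word hv
  obtain ⟨si1, si2⟩ := gam_winv hv hvi hone
  obtain ⟨hl, hI, hF⟩ := fwd_sound hR hprev _ _ _ _ s1 hfw
  set S := R.segs.getD (C.just f).a [] with hS
  set SI := R.segI.getD (C.just f).a [] with hSI
  set r := fwd B.ml R C f (C.just f).fw S (C.just f).b (wmatL B.ml (C.just f).word) with hr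
  set x := g (C.just f).b * B.gam (wmatL B.ml (C.just f).word) with hx
  have hrel : segProd B S = 1 := hR.hR _
  cases he : (C.fact f).edge
  · simp only [he, cond_false, Bool.and_eq_true] at hc
    obtain ⟨⟨⟨hlen, hri⟩, hi⟩, hh⟩ := hc
    obtain ⟨p1, p2⟩ := B.img_mm hI si1
    simp only [Holds, he, Nat.eq_of_beq_eq_true hh, Nat.eq_of_beq_eq_true hi]
    refine ⟨p1, ?_⟩
    rw [List.take_of_length_le (le_of_eq (Nat.eq_of_beq_eq_true hlen).symm), hrel, mul_one,
      Nat.eq_of_beq_eq_true hri] at hF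
    rw [p2, si2, ← mul_assoc, ← B.cs_mul hF, hx]
    simp [mul_assoc]
  · simp only [he, cond_true, Bool.and_eq_true, decide_eq_true_eq] at hc
    obtain ⟨⟨⟨⟨⟨⟨⟨⟨hlt, hq⟩, hsk⟩, hsik⟩, honek⟩, hi⟩, hh⟩, hj⟩, hw⟩ := hc
    obtain ⟨hQ, hB⟩ := bwd_sound hR hprev _ _ _ _ _ s1 hq
    rw [List.reverse_reverse] at hB
    obtain ⟨k1, k2⟩ := gam_winv hsk hsik honek
    obtain ⟨p1, p2⟩ := B.img_mm hQ k1
    simp only [Holds, he, if_true, Nat.eq_of_beq_eq_true hh, Nat.eq_of_beq_eq_true hi,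
      Nat.eq_of_beq_eq_true hj, Nat.eq_of_beq_eq_true hw]
    refine ⟨hI, p1, ?_⟩
    rw [p2, k2, (B.img_word hsk).2]
    set n := (C.just f).fw.length
    set sk := S.getD n [] with hskdef
    have hsplit : segProd B S =
        segProd B (S.take n) * (B.Z * B.wg sk) * segProd B (S.drop (n + 1)) := by
      conv_lhs => rw [← List.take_append_drop n S]
      rw [segProd_append, List.drop_eq_getElem_cons hlt, hskdef,
        List.getD_eq_getElem _ _ hlt]
      simp [segProd, mul_assoc]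
    rw [hsplit] at hrel
    have e1 := B.cs_mul hF ((B.Z * B.wg sk) * segProd B (S.drop (n + 1)))
    have e2 : x * segProd B (S.take n) * (B.Z * B.wg sk * segProd B (S.drop (n + 1))) = x := by
      simp only [mul_assoc] at hrel ⊢
      rw [hrel, mul_one]
    rw [e2, hx, ← hB] at e1
    have e3 := B.cs_mul e1 ((segProd B (S.drop (n + 1)))⁻¹ * (B.wg sk)⁻¹)
    simp only [mul_assoc, mul_inv_cancel_left, mul_inv_cancel, mul_one] at e3 ⊢
    exact e3.symm

/-- Every fact of a checked certificate holds. -/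
theorem holds_of_chk (hC : ∀ f < C.facts.length, chk B.ml R C f = true) :
    ∀ f < C.facts.length, Holds B g (C.fact f) := by
  intro f
  induction f using Nat.strong_induction_on with
  | _ f ih =>
    intro hf
    have hprev : ∀ e < f, Holds B g (C.fact e) := fun e he => ih e he (he.trans hf)
    have h := hC f hf
    unfold chk at h
    split at h
    · exact chkDef_sound hR h
    · exact chkK_sound hR h
    · exact chkZZ_sound hR h
    · exact chkMove_sound hR hprev h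
    · exact chkRev_sound hR hprev h
    · exact chkTrans_sound hR hprev h
    · exact chkClose_sound hprev h
    · exact chkRel_sound hR hprev h
    · simp at h

end Cfsg.Agent.H34.Ly
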