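import Cfsg.Agent.H34.Ly.Engine

/-!
Objects moved by the `7 × 7` matrices: three pairs of projective points, coded by one number.
They realise the action on the cosets of the subgroup of index 19530.
-/

set_option autoImplicit false

namespace Cfsg.Agent.H34.Ly

open Cfsg.Agent.Compute

/-- Row vectors. -/
abbrev V7 : Type := Fin 7 → ZMod 5

/-- A packed vector. -/
noncomputable def toV (v : ℕ) : V7 := fun i => (getP 7 v i : ZMod 5)

/-- Packed vector times packed matrix. -/
noncomputable def vm (v M : ℕ) : ℕ :=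
  packP 7 (fun j => Nat.mod (getP 7 (rowAcc 7 7 v M 0) j) 5) 7

/-- Scalar times packed vector. -/
noncomputable def smv (c v : ℕ) : ℕ :=
  packP 7 (fun j => Nat.mod (Nat.mul c (getP 7 v j)) 5) 7

theorem toV_smv (c v : ℕ) : toV (smv c v) = (c : ZMod 5) • toV v := by
  funext j
  simp only [toV, smv, Pi.smul_apply, smul_eq_mul]
  rw [getP_packP 7 (fun j => Nat.mod (Nat.mul c (getP 7 v j)) 5) 7
    (fun i _ => lt_trans (Nat.mod_lt _ (by norm_num)) (by norm_num)) j j.2]
  show ((c * getP 7 v j % 5 : ℕ) : ZMod 5) = _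
  rw [ZMod.natCast_mod, Nat.cast_mul]

theorem toV_vm {v M : ℕ} (hv : ∀ k < 7, getP 7 v k < 5) (hM : Ok7 M) :
    toV (vm v M) = Matrix.vecMul (toV v) (den M : Matrix (Fin 7) (Fin 7) (ZMod 5)) := by
  unfold Ok7 at hM
  have hM' : MatOK 7 7 5 M := hM
  have hd : (den M : Matrix (Fin 7) (Fin 7) (ZMod 5)) = toMat 7 7 5 M := by
    unfold den
    exact matDen_coe hM'
  rw [hd]
  funext j
  simp only [toV, vm]
  rw [getP_packP 7 (fun j => Nat.mod (getP 7 (rowAcc 7 7 v M 0) j) 5) 7
    (fun i _ => lt_trans (Nat.mod_lt _ (by norm_num)) (by norm_num)) j j.2]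
  show ((getP 7 (rowAcc 7 7 v M 0) j % 5 : ℕ) : ZMod 5) = _
  rw [ZMod.natCast_mod, rowAcc_eq, getP_packP 7 _ 7 (fun j' hj' => lt_of_le_of_lt ?_
    (show 7 * 4 ^ 2 < 2 ^ 7 by norm_num)) j j.2, Nat.cast_sum]
  · simp only [Matrix.vecMul, dotProduct, toMat, Nat.zero_mul, Nat.zero_add, Nat.cast_mul]
    rfl
  · calc (∑ l : Fin 7, getP 7 v (0 * 7 + l) * getP 7 M (l * 7 + j'))
        ≤ ∑ _l : Fin 7, 4 ^ 2 := Finset.sum_le_sum fun l _ => by
          have h1 := hv (0 * 7 + l) (by omega)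
          have h2 := hM'.1.1 ((l : ℕ) * 7 + j') (by omega)
          rw [sq]; exact Nat.mul_le_mul (by omega) (by omega)
      _ = 7 * 4 ^ 2 := by simp

/-- The punctured line through a vector. -/
def Ln (v : V7) : Set V7 := {w | ∃ c : ZMod 5, c ≠ 0 ∧ w = c • v}

theorem Ln_image (v : V7) (A : Matrix (Fin 7) (Fin 7) (ZMod 5)) :
    (fun w => Matrix.vecMul w A) '' Ln v = Ln (Matrix.vecMul v A) := by
  ext w
  constructor
  · rintro ⟨u, ⟨c, hc, rfl⟩, rfl⟩
    exact ⟨c, hc, Matrix.smul_vecMul c v A⟩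
  · rintro ⟨c, hc, rfl⟩
    exact ⟨c • v, ⟨c, hc, rfl⟩, Matrix.smul_vecMul c v A⟩

theorem Ln_smul (v : V7) {c : ZMod 5} (hc : c ≠ 0) : Ln (c • v) = Ln v := by
  have : Fact (Nat.Prime 5) := ⟨by norm_num⟩
  ext w
  constructor
  · rintro ⟨d, hd, rfl⟩
    exact ⟨d * c, mul_ne_zero hd hc, smul_smul d c v⟩
  · rintro ⟨d, hd, rfl⟩
    exact ⟨d * c⁻¹, mul_ne_zero hd (inv_ne_zero hc),
      by rw [smul_smul, mul_assoc, inv_mul_cancel₀ hc, mul_one]⟩

/-- Objects. -/
abbrev Obj : Type := Set (Set (Set V7))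

/-- The action of a matrix on objects. -/
def ac (X : Obj) (m : M7) : Obj :=
  (fun P => (fun L => (fun w => Matrix.vecMul w (m : Matrix (Fin 7) (Fin 7) (ZMod 5))) '' L) '' P)
    '' X

theorem ac_one (X : Obj) : ac X 1 = X := by
  simp [ac]

theorem ac_mul (X : Obj) (m n : M7) : ac (ac X m) n = ac X (m * n) := by
  simp only [ac, Set.image_image, Units.val_mul, Matrix.vecMul_vecMul]

/-- The tables: points and, for some matrices, their permutations of the points. -/
noncomputable def ptv (pts i : ℕ) : ℕ := getP 49 pts i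

/-- A canonical nonzero vector: first nonzero entry one. -/
noncomputable def canon (v : ℕ) : Bool :=
  allN 7 (fun k => Nat.blt (getP 7 v k) 5) &&
    Nat.beq (packP 7 (fun k => getP 7 v k) 7) v &&
    !allN 7 (fun k => !(Nat.beq (getP 7 v k) 1 && allN k (fun j => Nat.beq (getP 7 v j) 0)))

/-- The list of points is canonical and increasing. -/
noncomputable def ptsOK (pts n : ℕ) : Bool :=
  allN n (fun i => canon (ptv pts i) &&
    (Nat.ble n (i + 1) || Nat.blt (ptv pts i) (ptv pts (i + 1))))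

/-- Table entry `4 * image + (scalar - 1)`. -/
noncomputable def tabAt (tab i : ℕ) : ℕ := getP 14 tab i

noncomputable def tabOKAt (pts n M tab i : ℕ) : Bool :=
  Nat.blt (Nat.div (tabAt tab i) 4) n &&
    Nat.beq (smv (Nat.mod (tabAt tab i) 4 + 1) (ptv pts (Nat.div (tabAt tab i) 4)))
      (vm (ptv pts i) M)

noncomputable def tabOK (pts n M tab : ℕ) : Bool := allN n (tabOKAt pts n M tab)

theorem canon_lt {v : ℕ} (h : canon v = true) : ∀ k < 7, getP 7 v k < 5 := by
  simp only [canon, Bool.and_eq_true, allN_iff, Nat.blt_eq] at h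
  exact h.1.1

theorem canon_lead {v : ℕ} (h : canon v = true) :
    ∃ k : Fin 7, toV v k = 1 ∧ ∀ j : Fin 7, j < k → toV v j = 0 := by
  simp only [canon, Bool.and_eq_true, Bool.not_eq_true', ← Bool.not_eq_true, allN_iff] at h
  have h2 := h.2
  push Not at h2
  obtain ⟨k, hk, hk'⟩ := h2
  simp only [Nat.beq_eq] at hk'
  refine ⟨⟨k, hk⟩, by simp [toV, hk'.1], fun j hj => ?_⟩
  simp [toV, hk'.2 j hj]

theorem canon_eq {v w : ℕ} (hv : canon v = true) (hw : canon w = true)
    (h : Ln (toV v) = Ln (toV w)) : v = w := by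
  have : Fact (Nat.Prime 5) := ⟨by norm_num⟩
  have hmem : toV v ∈ Ln (toV w) := h ▸ ⟨1, one_ne_zero, (one_smul _ _).symm⟩
  obtain ⟨c, hc, he⟩ := hmem
  obtain ⟨k, k1, k0⟩ := canon_lead hv
  obtain ⟨l, l1, l0⟩ := canon_lead hw
  have hk := congrFun he k
  have hl := congrFun he l
  simp only [Pi.smul_apply, smul_eq_mul] at hk hl
  have hkl : k = l := by
    rcases lt_trichotomy k l with h' | h' | h'
    · rw [k1, l0 k h', mul_zero] at hk; exact absurd hk one_ne_zero
    · exact h'
    · rw [l1, mul_one, k0 l h'] at hl; exact absurd hl.symm hc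
  subst hkl
  rw [k1, l1, mul_one] at hk
  subst hk
  rw [one_smul] at he
  have hb1 : packP 7 (fun k => getP 7 v k) 7 = v := by
    simp only [canon, Bool.and_eq_true, Nat.beq_eq] at hv; exact hv.1.2
  have hb2 : packP 7 (fun k => getP 7 w k) 7 = w := by
    simp only [canon, Bool.and_eq_true, Nat.beq_eq] at hw; exact hw.1.2
  rw [← hb1, ← hb2]
  refine packP_congr 7 7 fun i hi => ?_
  have hi' := congrFun he ⟨i, hi⟩
  simp only [toV] at hi'
  rw [ZMod.natCast_eq_natCast_iff', Nat.mod_eq_of_lt (canon_lt hv i hi),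
    Nat.mod_eq_of_lt (canon_lt hw i hi)] at hi'
  exact hi'

/-- The line of a point. -/
noncomputable def ptL (pts i : ℕ) : Set V7 := Ln (toV (getP 49 pts i))

theorem pts_canon {pts n : ℕ} (h : ptsOK pts n = true) {i : ℕ} (hi : i < n) :
    canon (ptv pts i) = true := by
  simp only [ptsOK, allN_iff, Bool.and_eq_true] at h
  exact (h i hi).1

theorem pts_lt {pts n : ℕ} (h : ptsOK pts n = true) :
    ∀ {i j : ℕ}, i < j → j < n → ptv pts i < ptv pts j := by
  simp only [ptsOK, allN_iff, Bool.and_eq_true, Bool.or_eq_true, Nat.ble_eq, Nat.blt_eq] at h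
  intro i j hij
  induction hij with
  | refl => intro hj; exact (h i (by omega)).2.resolve_left (by omega)
  | @step j hij ih =>
    intro hj
    exact (ih (by omega)).trans ((h j (by omega)).2.resolve_left (by omega))

theorem ptL_inj {pts n : ℕ} (h : ptsOK pts n = true) {i j : ℕ} (hi : i < n) (hj : j < n)
    (e : ptL pts i = ptL pts j) : i = j := by
  have e' : ptv pts i = ptv pts j := canon_eq (pts_canon h hi) (pts_canon h hj) e
  rcases lt_trichotomy i j with h' | h' | h'
  · exact absurd e' (pts_lt h h' hj).ne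
  · exact h'
  · exact absurd e' (pts_lt h h' hi).ne'

theorem ptL_move {pts n M tab : ℕ} (hp : ptsOK pts n = true) (hM : Ok7 M)
    (ht : tabOK pts n M tab = true) {i : ℕ} (hi : i < n) :
    Nat.div (tabAt tab i) 4 < n ∧
      (fun w => Matrix.vecMul w (den M : Matrix (Fin 7) (Fin 7) (ZMod 5))) '' ptL pts i =
        ptL pts (Nat.div (tabAt tab i) 4) := by
  have : Fact (Nat.Prime 5) := ⟨by norm_num⟩
  simp only [tabOK, allN_iff, tabOKAt, Bool.and_eq_true, Nat.blt_eq] at ht
  obtain ⟨hlt, he⟩ := ht i hi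
  refine ⟨hlt, ?_⟩
  have he' := Nat.eq_of_beq_eq_true he
  show _ '' Ln (toV (ptv pts i)) = Ln (toV (ptv pts _))
  rw [Ln_image, ← toV_vm (canon_lt (pts_canon hp hi)) hM, ← he', toV_smv, Ln_smul]
  intro h0
  rw [ZMod.natCast_eq_zero_iff] at h0
  have h4 : Nat.mod (tabAt tab i) 4 < 4 := Nat.mod_lt _ (by norm_num)
  have := Nat.le_of_dvd (by omega) h0
  omega

/-- A pair code `4096 a + b`. -/
noncomputable def pairSet (pts p : ℕ) : Set (Set V7) := {ptL pts (p / 4096), ptL pts (p % 4096)}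

/-- An object code: three pair codes of 24 bits. -/
noncomputable def objC (pts x : ℕ) : Obj :=
  {pairSet pts (getP 24 x 0), pairSet pts (getP 24 x 1), pairSet pts (getP 24 x 2)}

noncomputable def pairOK (n p : ℕ) : Bool :=
  Nat.blt (Nat.div p 4096) (Nat.mod p 4096) && Nat.blt (Nat.mod p 4096) n

noncomputable def codeOK (n x : ℕ) : Bool :=
  pairOK n (getP 24 x 0) && pairOK n (getP 24 x 1) && pairOK n (getP 24 x 2) &&
    Nat.blt (getP 24 x 0) (getP 24 x 1) && Nat.blt (getP 24 x 1) (getP 24 x 2) &&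
    Nat.beq (packP 24 (fun k => getP 24 x k) 3) x

theorem pairSet_inj {pts n : ℕ} (h : ptsOK pts n = true) {p q : ℕ} (hp : pairOK n p = true)
    (hq : pairOK n q = true) (e : pairSet pts p = pairSet pts q) : p = q := by
  simp only [pairOK, Bool.and_eq_true, Nat.blt_eq] at hp hq
  change p / 4096 < p % 4096 ∧ p % 4096 < n at hp
  change q / 4096 < q % 4096 ∧ q % 4096 < n at hq
  have hpa : p / 4096 < n := by omega
  have hqa : q / 4096 < n := by omega
  rcases Set.pair_eq_pair_iff.1 e with ⟨e1, e2⟩ | ⟨e1, e2⟩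
  · have := ptL_inj h hpa hqa e1
    have := ptL_inj h hp.2 hq.2 e2
    omega
  · have := ptL_inj h hpa hq.2 e1
    have := ptL_inj h hp.2 hqa e2
    omega

theorem objC_inj {pts n : ℕ} (h : ptsOK pts n = true) {x y : ℕ} (hx : codeOK n x = true)
    (hy : codeOK n y = true) (e : objC pts x = objC pts y) : x = y := by
  simp only [codeOK, Bool.and_eq_true, Nat.blt_eq] at hx hy
  obtain ⟨⟨⟨⟨⟨x0, x1⟩, x2⟩, x01⟩, x12⟩, xb⟩ := hx
  obtain ⟨⟨⟨⟨⟨y0, y1⟩, y2⟩, y01⟩, y12⟩, yb⟩ := hy
  have hin : ∀ p, pairOK n p = true → pairSet pts p ∈ objC pts y →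
      p = getP 24 y 0 ∨ p = getP 24 y 1 ∨ p = getP 24 y 2 := by
    intro p hp hm
    simp only [objC, Set.mem_insert_iff, Set.mem_singleton_iff] at hm
    rcases hm with hm | hm | hm
    · exact Or.inl (pairSet_inj h hp y0 hm)
    · exact Or.inr (Or.inl (pairSet_inj h hp y1 hm))
    · exact Or.inr (Or.inr (pairSet_inj h hp y2 hm))
  have h0 := hin _ x0 (e ▸ by simp [objC])
  have h1 := hin _ x1 (e ▸ by simp [objC])
  have h2 := hin _ x2 (e ▸ by simp [objC])
  have a0 : getP 24 x 0 = getP 24 y 0 := by omega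
  have a1 : getP 24 x 1 = getP 24 y 1 := by omega
  have a2 : getP 24 x 2 = getP 24 y 2 := by omega
  rw [← Nat.eq_of_beq_eq_true xb, ← Nat.eq_of_beq_eq_true yb]
  refine packP_congr 24 3 fun i hi => ?_
  interval_cases i <;> assumption

/-- An ordered pair code. -/
noncomputable def mkPair (a b : ℕ) : ℕ :=
  cond (Nat.ble a b) (Nat.add (Nat.mul 4096 a) b) (Nat.add (Nat.mul 4096 b) a)

/-- A normalised code of three pairs. -/
noncomputable def mkCode (p q r : ℕ) : ℕ :=
  let s3 (a b c : ℕ) := packP 24 (fun k => cond (Nat.beq k 0) a (cond (Nat.beq k 1) b c)) 3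
  cond (Nat.ble p q)
    (cond (Nat.ble q r) (s3 p q r) (cond (Nat.ble p r) (s3 p r q) (s3 r p q)))
    (cond (Nat.ble p r) (s3 q p r) (cond (Nat.ble q r) (s3 q r p) (s3 r q p)))

/-- The image of a pair code under a table. -/
noncomputable def movePair (tab p : ℕ) : ℕ :=
  mkPair (Nat.div (tabAt tab (Nat.div p 4096)) 4) (Nat.div (tabAt tab (Nat.mod p 4096)) 4)

/-- The image of an object code under a table. -/
noncomputable def moveCode (tab x : ℕ) : ℕ :=
  mkCode (movePair tab (getP 24 x 0)) (movePair tab (getP 24 x 1)) (movePair tab (getP 24 x 2))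

theorem objC_mkCode (pts p q r : ℕ) (hp : p < 2 ^ 24) (hq : q < 2 ^ 24) (hr : r < 2 ^ 24) :
    objC pts (mkCode p q r) = {pairSet pts p, pairSet pts q, pairSet pts r} := by
  have key : ∀ a b c : ℕ, a < 2 ^ 24 → b < 2 ^ 24 → c < 2 ^ 24 →
      objC pts (packP 24 (fun k => cond (Nat.beq k 0) a (cond (Nat.beq k 1) b c)) 3) =
        {pairSet pts a, pairSet pts b, pairSet pts c} := by
    intro a b c ha hb hc
    have hlt : ∀ i < 3, cond (Nat.beq i 0) a (cond (Nat.beq i 1) b c) < 2 ^ 24 := by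
      intro i _
      cases Nat.beq i 0 <;> cases Nat.beq i 1 <;> assumption
    simp only [objC]
    rw [getP_packP 24 _ 3 hlt 0 (by norm_num), getP_packP 24 _ 3 hlt 1 (by norm_num),
      getP_packP 24 _ 3 hlt 2 (by norm_num)]
    rfl
  simp only [mkCode]
  cases Nat.ble p q <;> cases Nat.ble q r <;> cases Nat.ble p r <;>
    simp only [cond_true, cond_false, key _ _ _ hp hq hr, key _ _ _ hp hr hq, key _ _ _ hq hp hr,
      key _ _ _ hq hr hp, key _ _ _ hr hp hq, key _ _ _ hr hq hp] <;>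
    ext P <;> simp only [Set.mem_insert_iff, Set.mem_singleton_iff] <;> tauto

theorem pairSet_mkPair (pts a b : ℕ) (ha : a < 4096) (hb : b < 4096) :
    pairSet pts (mkPair a b) = {ptL pts a, ptL pts b} := by
  unfold mkPair
  cases Nat.ble a b
  · simp only [cond_false]
    show ({ptL pts ((4096 * b + a) / 4096), ptL pts ((4096 * b + a) % 4096)} : Set (Set V7)) = _
    rw [show (4096 * b + a) / 4096 = b by omega, show (4096 * b + a) % 4096 = a by omega,
      Set.pair_comm]
  · simp only [cond_true]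
    show ({ptL pts ((4096 * a + b) / 4096), ptL pts ((4096 * a + b) % 4096)} : Set (Set V7)) = _
    rw [show (4096 * a + b) / 4096 = a by omega, show (4096 * a + b) % 4096 = b by omega]

theorem objC_move {pts n M tab x : ℕ} (hn : n ≤ 4096) (hp : ptsOK pts n = true) (hM : Ok7 M)
    (ht : tabOK pts n M tab = true) (hx : codeOK n x = true) :
    ac (objC pts x) (den M) = objC pts (moveCode tab x) := by
  simp only [codeOK, Bool.and_eq_true] at hx
  obtain ⟨⟨⟨⟨⟨x0, x1⟩, x2⟩, -⟩, -⟩, -⟩ := hx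
  have hpair : ∀ p, pairOK n p = true →
      movePair tab p < 2 ^ 24 ∧
      (fun L => (fun w => Matrix.vecMul w (den M : Matrix (Fin 7) (Fin 7) (ZMod 5))) '' L) ''
        pairSet pts p = pairSet pts (movePair tab p) := by
    intro p h
    simp only [pairOK, Bool.and_eq_true, Nat.blt_eq] at h
    change p / 4096 < p % 4096 ∧ p % 4096 < n at h
    obtain ⟨a1, a2⟩ := ptL_move hp hM ht (show p / 4096 < n by omega)
    obtain ⟨b1, b2⟩ := ptL_move hp hM ht h.2
    refine ⟨?_, ?_⟩
    · show mkPair _ _ < _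
      unfold mkPair
      change Nat.div (tabAt tab (p / 4096)) 4 < n at a1
      change Nat.div (tabAt tab (p % 4096)) 4 < n at b1
      generalize hu : Nat.div (tabAt tab (p / 4096)) 4 = u at a1
      generalize hv : Nat.div (tabAt tab (p % 4096)) 4 = v at b1
      cases Nat.ble u v <;> simp only [cond_true, cond_false, Nat.add_eq, Nat.mul_eq] <;> omega
    · rw [movePair]
      change _ = pairSet pts (mkPair (Nat.div (tabAt tab (p / 4096)) 4)
        (Nat.div (tabAt tab (p % 4096)) 4))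
      rw [pairSet_mkPair _ _ _ (by omega) (by omega), pairSet, Set.image_pair, a2, b2]
  obtain ⟨l0, e0⟩ := hpair _ x0
  obtain ⟨l1, e1⟩ := hpair _ x1
  obtain ⟨l2, e2⟩ := hpair _ x2
  rw [moveCode, objC_mkCode _ _ _ _ l0 l1 l2, ac, objC, Set.image_insert_eq, Set.image_pair,
    e0, e1, e2]

end Cfsg.Agent.H34.Ly
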