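import Cfsg.Prelude.Def_Spor_Ly

/-! Generated words for the auxiliary generators and the relator conjugations. -/

set_option autoImplicit false
set_option maxRecDepth 100000

namespace Cfsg.Agent.H34.Ly

open Cfsg.Spor

/-- The printed generators as words in `a, b, c, d, z`. -/
def tauL : Ly.Gen → List ℕ
  | Ly.Gen.a => [0]
  | Ly.Gen.b => [1]
  | Ly.Gen.c => [2]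
  | Ly.Gen.d => [3]
  | Ly.Gen.z => [8]
  | Ly.Gen.e => [5,5,4,6,0,2,4,2,0,3,2,1,0,5,3,2,3]
  | Ly.Gen.a1 => [0]
  | Ly.Gen.a2 => [1,0,5]
  | Ly.Gen.a3 => [1,1,0,5,5]
  | Ly.Gen.a4 => [5,5,0,1,1]
  | Ly.Gen.c1 => [2]
  | Ly.Gen.c2 => [4,2,0]
  | Ly.Gen.c3 => [5,2,1]
  | Ly.Gen.c4 => [1,2,5]
  | Ly.Gen.c5 => [6,4,6,0,2,4,2,0]
  | Ly.Gen.u => [0,0]
  | Ly.Gen.x23 => [3]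
  | Ly.Gen.x24 => [7]
  | Ly.Gen.x25 => [1,1,4,5,4,1,1,6,0,2,4,6,3,6,1,1,4,2,1]
  | Ly.Gen.x29 => [0,1,4,1,1,4,1,1,6,0,2,1,2,5,3,2,5,5,3,2,1,2]
  | Ly.Gen.x47 => [6,7,4,6,4,1,6,7]
  | Ly.Gen.x96 => [1,3]
  | Ly.Gen.x129 => [7,5]
  | Ly.Gen.x162 => [4,5,4,1,6,5,0,6,1,0]
  | Ly.Gen.x163 => [5,5,0,2,4,1,2,1]
  | Ly.Gen.x164 => [4,5,4,2,0,1,0]
  | Ly.Gen.x165 => [5,4,1,2,5,0,1]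
  | Ly.Gen.x166 => [1,1,4,5,2,1,0,2,5,5,6]
  | Ly.Gen.x167 => [4,4,4]
  | Ly.Gen.x168 => [1,4,5,4,4]
  | Ly.Gen.x169 => [0,1,1,0,5,5,4]
  | Ly.Gen.x364 => [4,3,5,6,4,1,6,7,1,6,5,4,6,0,5,0,1,0,5]
  | Ly.Gen.x365 => [0,5,5,4,2,1,6,1,4,6,6,3,2,0,2,4,2,5,7]
  | Ly.Gen.x366 => [1,0,5,4,5,5,4,5,2,1,1,2,1,3,2,5,5,3,2,1,2]
  | Ly.Gen.x367 => [6,5,6,7,1,1,6,7,5,6,5,5,6,1,0,1,1,0,1,4,5]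
  | Ly.Gen.x368 => [4,6,7,0,6,5,0,6,7,4,6,0,2,5,5,6,5,4,5,5]
  | Ly.Gen.x369 => [4,6,7,1,4,5,6,7,1,4,5,6,5,0,5,5,0,5]
  | Ly.Gen.x370 => [7,0,2,1,2,4,6,7,0,5,4,2,4,5,5,4,1,4]
  | Ly.Gen.x371 => [6,4,2,1,6,7,2,4,2,0,2,5,4,5,4,1]

/-- The position of the relation defining a generator. -/
def defIdx : Ly.Gen → ℕ
  | Ly.Gen.a => 0
  | Ly.Gen.b => 0
  | Ly.Gen.c => 0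
  | Ly.Gen.d => 0
  | Ly.Gen.z => 0
  | Ly.Gen.e => 28
  | Ly.Gen.a1 => 44
  | Ly.Gen.a2 => 45
  | Ly.Gen.a3 => 46
  | Ly.Gen.a4 => 47
  | Ly.Gen.c1 => 5
  | Ly.Gen.c2 => 6
  | Ly.Gen.c3 => 7
  | Ly.Gen.c4 => 8
  | Ly.Gen.c5 => 9
  | Ly.Gen.u => 48
  | Ly.Gen.x23 => 49
  | Ly.Gen.x24 => 50
  | Ly.Gen.x25 => 51
  | Ly.Gen.x29 => 52
  | Ly.Gen.x47 => 53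
  | Ly.Gen.x96 => 54
  | Ly.Gen.x129 => 55
  | Ly.Gen.x162 => 56
  | Ly.Gen.x163 => 57
  | Ly.Gen.x164 => 58
  | Ly.Gen.x165 => 59
  | Ly.Gen.x166 => 60
  | Ly.Gen.x167 => 61
  | Ly.Gen.x168 => 62
  | Ly.Gen.x169 => 63
  | Ly.Gen.x364 => 64
  | Ly.Gen.x365 => 65
  | Ly.Gen.x366 => 66
  | Ly.Gen.x367 => 67
  | Ly.Gen.x368 => 68
  | Ly.Gen.x369 => 69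
  | Ly.Gen.x370 => 70
  | Ly.Gen.x371 => 71

/-- All generators. -/
def allGens : List Ly.Gen := [Ly.Gen.a, Ly.Gen.b, Ly.Gen.c, Ly.Gen.d, Ly.Gen.z, Ly.Gen.e, Ly.Gen.a1, Ly.Gen.a2, Ly.Gen.a3, Ly.Gen.a4, Ly.Gen.c1, Ly.Gen.c2, Ly.Gen.c3, Ly.Gen.c4, Ly.Gen.c5, Ly.Gen.u, Ly.Gen.x23, Ly.Gen.x24, Ly.Gen.x25, Ly.Gen.x29, Ly.Gen.x47, Ly.Gen.x96, Ly.Gen.x129, Ly.Gen.x162, Ly.Gen.x163, Ly.Gen.x164, Ly.Gen.x165, Ly.Gen.x166, Ly.Gen.x167, Ly.Gen.x168, Ly.Gen.x169, Ly.Gen.x364, Ly.Gen.x365, Ly.Gen.x366, Ly.Gen.x367, Ly.Gen.x368, Ly.Gen.x369, Ly.Gen.x370, Ly.Gen.x371]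

/-- Relator and conjugator for `kin Z kimg⁻¹ Z⁻¹`. -/
def kConj : List (ℕ × List ℕ × Bool) := [(72, [8], false), (72, [6,8], true), (73, [8], false), (73, [4,6,0,8], true), (74, [8], false), (74, [5,6,1,8], true), (75, [8], false), (75, [1,6,5,8], true), (76, [8], false), (76, [4,6,0,6,4,2,0,2,8], true), (77, [8], false), (77, [4,8], true), (78, [8], false), (78, [1,4,5,8], true), (79, [8], false), (79, [1,1,4,5,5,8], true)]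

/-- Relator, conjugator and rotated word. -/
def relRot : List (ℕ × List ℕ × List ℕ) := [
  (72, [], [9,2,8,4,5,2,4,1,2,5,0,1,0]),
  (74, [], [9,5,2,1,8,4,5,4,6,0,1,0]),
  (74, [5,6,1,8], [8,4,5,4,6,0,1,0,9,5,2,1]),
  (75, [], [9,1,2,5,8,5,4,1,6,5,0,1]),
  (79, [1,1,4,5,5,8], [8,0,1,1,4,5,5,4,9,1,1,0,5,5]),
  (81, [5,5,4,1,1], [8,5,5,0,1,1,8,5,5,0,1,1,8,0,0,5,5,0,1,1]),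
  (81, [5,5,4,1,1,9,5,5,4,1,1], [8,5,5,0,1,1,8,0,0,5,5,0,1,1,8,5,5,0,1,1]),
  (81, [5,5,4,1,1,9,5,5,4,1,1,9,5,5,4,1,1], [8,0,0,5,5,0,1,1,8,5,5,0,1,1,8,5,5,0,1,1]),
  (82, [3,2,5,0,2,0,3,2], [8,4,3,5,6,4,1,6,7,1,6,5,4,6,0,5,0,1,0,5,8,4,6,7,0,6,5,0,6,7,4,6,0,2,5,5,6,5,4,5,5,8,6,7,4,6,4,1,6,7]),
  (82, [1,4,5,4,1,4,2,0,1,2,5,3,2,5,0,2,1,7,0,9,3,2,5,0,2,0,3,2], [8,4,6,7,0,6,5,0,6,7,4,6,0,2,5,5,6,5,4,5,5,8,6,7,4,6,4,1,6,7,8,4,3,5,6,4,1,6,7,1,6,5,4,6,0,5,0,1,0,5]),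
  (82, [1,1,0,1,2,1,1,6,4,2,0,3,2,4,1,2,4,3,2,0,9,1,4,5,4,1,4,2,0,1,2,5,3,2,5,0,2,1,7,0,9,3,2,5,0,2,0,3,2], [8,6,7,4,6,4,1,6,7,8,4,3,5,6,4,1,6,7,1,6,5,4,6,0,5,0,1,0,5,8,4,6,7,0,6,5,0,6,7,4,6,0,2,5,5,6,5,4,5,5]),
  (83, [], [9,7,9,4,6,7,1,4,5,6,7,1,4,5,6,5,0,5,5,0,5,8,3,8,0,1,4,1,1,4,1,1,6,0,2,1,2,5,3,2,5,5,3,2,1,2]),
  (83, [3,8], [9,4,6,7,1,4,5,6,7,1,4,5,6,5,0,5,5,0,5,8,3,8,0,1,4,1,1,4,1,1,6,0,2,1,2,5,3,2,5,5,3,2,1,2,9,7]),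
  (83, [1,4,1,1,4,1,2,1,0,5,3,2,1,0,5,3,2,0,8,3,8], [8,3,8,0,1,4,1,1,4,1,1,6,0,2,1,2,5,3,2,5,5,3,2,1,2,9,7,9,4,6,7,1,4,5,6,7,1,4,5,6,5,0,5,5,0,5]),
  (83, [7,9,1,4,1,1,4,1,2,1,0,5,3,2,1,0,5,3,2,0,8,3,8], [8,0,1,4,1,1,4,1,1,6,0,2,1,2,5,3,2,5,5,3,2,1,2,9,7,9,4,6,7,1,4,5,6,7,1,4,5,6,5,0,5,5,0,5,8,3]),
  (84, [], [8,1,0,5,4,5,5,4,5,2,1,1,2,1,3,2,5,5,3,2,1,2,8,0,5,5,4,2,1,6,1,4,6,6,3,2,0,2,4,2,5,7,9,6,5,6,7,1,1,6,7,5,6,5,5,6,1,0,1,1,0,1,4,5,9,7,0,2,1,2,4,6,7,0,5,4,2,4,5,5,4,1,4]),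
  (84, [6,5,6,7,1,1,6,7,5,6,5,5,6,1,0,1,1,0,1,4,5,9], [8,0,5,5,4,2,1,6,1,4,6,6,3,2,0,2,4,2,5,7,9,6,5,6,7,1,1,6,7,5,6,5,5,6,1,0,1,1,0,1,4,5,9,7,0,2,1,2,4,6,7,0,5,4,2,4,5,5,4,1,4,8,1,0,5,4,5,5,4,5,2,1,1,2,1,3,2,5,5,3,2,1,2]),
  (84, [3,1,6,0,6,4,6,7,2,2,0,5,2,5,6,0,1,1,4,9,6,5,6,7,1,1,6,7,5,6,5,5,6,1,0,1,1,0,1,4,5,9], [9,6,5,6,7,1,1,6,7,5,6,5,5,6,1,0,1,1,0,1,4,5,9,7,0,2,1,2,4,6,7,0,5,4,2,4,5,5,4,1,4,8,1,0,5,4,5,5,4,5,2,1,1,2,1,3,2,5,5,3,2,1,2,8,0,5,5,4,2,1,6,1,4,6,6,3,2,0,2,4,2,5,7]),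
  (84, [1,0,5,4,5,5,4,5,2,1,1,2,1,3,2,5,5,3,2,1,2,8,3,1,6,0,6,4,6,7,2,2,0,5,2,5,6,0,1,1,4,9,6,5,6,7,1,1,6,7,5,6,5,5,6,1,0,1,1,0,1,4,5,9], [9,7,0,2,1,2,4,6,7,0,5,4,2,4,5,5,4,1,4,8,1,0,5,4,5,5,4,5,2,1,1,2,1,3,2,5,5,3,2,1,2,8,0,5,5,4,2,1,6,1,4,6,6,3,2,0,2,4,2,5,7,9,6,5,6,7,1,1,6,7,5,6,5,5,6,1,0,1,1,0,1,4,5]),
  (85, [], [8,1,3,8,1,1,4,5,4,1,1,6,0,2,4,6,3,6,1,1,4,2,1,9,7,5,9,6,4,2,1,6,7,2,4,2,0,2,5,4,5,4,1]),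
  (85, [7,5,9], [8,1,1,4,5,4,1,1,6,0,2,4,6,3,6,1,1,4,2,1,9,7,5,9,6,4,2,1,6,7,2,4,2,0,2,5,4,5,4,1,8,1,3]),
  (85, [5,6,0,5,5,2,7,2,0,6,4,2,5,5,0,1,0,5,5,9,7,5,9], [9,7,5,9,6,4,2,1,6,7,2,4,2,0,2,5,4,5,4,1,8,1,3,8,1,1,4,5,4,1,1,6,0,2,4,6,3,6,1,1,4,2,1]),
  (85, [1,3,8,5,6,0,5,5,2,7,2,0,6,4,2,5,5,0,1,0,5,5,9,7,5,9], [9,6,4,2,1,6,7,2,4,2,0,2,5,4,5,4,1,8,1,3,8,1,1,4,5,4,1,1,6,0,2,4,6,3,6,1,1,4,2,1,9,7,5])]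

end Cfsg.Agent.H34.Ly
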