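import Cfsg.Agent.H34.Ly.Obj

/-!
From a checked certificate to the bound on the index: subgroup orders, coverage of `H` by the double
cosets, and the closed set of cosets.
-/

set_option autoImplicit false

namespace Cfsg.Agent.H34.Ly

open Cfsg.Agent.Compute

namespace Base

variable {G : Type*} [Group G] (B : Base G)

/-- The matrices of the elements of `H`, as a subgroup. -/
def imgSub : Subgroup M7 := B.pairs.map (MonoidHom.snd G M7)

theorem mem_imgSub {m : M7} : m ∈ B.imgSub ↔ ∃ g, (g, m) ∈ B.pairs := by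
  constructor
  · rintro ⟨⟨g, m'⟩, h, rfl⟩; exact ⟨g, h⟩
  · rintro ⟨g, h⟩; exact ⟨(g, m), h, rfl⟩

open Classical in
/-- The element of `H` with a given matrix. -/
noncomputable def Gam (m : M7) : G :=
  if h : ∃ g, (g, m) ∈ B.pairs then Classical.choose h else 1

theorem Gam_eq {g : G} {m : M7} (h : (g, m) ∈ B.pairs) : B.Gam m = g := by
  have hex : ∃ g, (g, m) ∈ B.pairs := ⟨g, h⟩
  rw [Gam, dif_pos hex]
  exact B.uniq (Classical.choose_spec hex) h

theorem Gam_pair {m : M7} (h : m ∈ B.imgSub) : (B.Gam m, m) ∈ B.pairs := by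
  obtain ⟨g, hg⟩ := B.mem_imgSub.1 h
  rwa [B.Gam_eq hg]

theorem Gam_mem {m : M7} (h : m ∈ B.imgSub) : B.Gam m ∈ B.H := B.pairs_mem (B.Gam_pair h)

theorem Gam_one : B.Gam 1 = 1 := B.Gam_eq B.pairs.one_mem

theorem Gam_mul {m n : M7} (hm : m ∈ B.imgSub) (hn : n ∈ B.imgSub) :
    B.Gam (m * n) = B.Gam m * B.Gam n :=
  B.Gam_eq (B.pairs.mul_mem (B.Gam_pair hm) (B.Gam_pair hn))

theorem Gam_inv {m : M7} (hm : m ∈ B.imgSub) : B.Gam m⁻¹ = (B.Gam m)⁻¹ :=
  B.Gam_eq (B.pairs.inv_mem (B.Gam_pair hm))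

theorem Img.mem {B : Base G} {a : ℕ} (h : B.Img a) : den a ∈ B.imgSub :=
  B.mem_imgSub.2 h.2

theorem gam_eq_Gam {a : ℕ} (h : B.Img a) : B.gam a = B.Gam (den a) :=
  (B.Gam_eq (B.gam_pair h)).symm

theorem letter_mem {i : ℕ} (hi : i < 8) :
    den (B.ml i) ∈ B.imgSub ∧ B.Gam (den (B.ml i)) = B.gl i := by
  have hp : (B.gl i, den (B.ml i)) ∈ B.pairs := Subgroup.subset_closure ⟨i, hi, rfl⟩
  exact ⟨B.mem_imgSub.2 ⟨_, hp⟩, B.Gam_eq hp⟩

/-- The matrices fixing the coset `H gᵢ`. -/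
def Tsub (x : G) : Subgroup M7 where
  carrier := {m | m ∈ B.imgSub ∧ B.cs (x * B.Gam m) = B.cs x}
  one_mem' := ⟨B.imgSub.one_mem, by rw [B.Gam_one, mul_one]⟩
  mul_mem' := by
    rintro m n ⟨hm, hm'⟩ ⟨hn, hn'⟩
    refine ⟨B.imgSub.mul_mem hm hn, ?_⟩
    rw [B.Gam_mul hm hn, ← mul_assoc, B.cs_mul hm', hn']
  inv_mem' := by
    rintro m ⟨hm, hm'⟩
    refine ⟨B.imgSub.inv_mem hm, ?_⟩
    rw [B.Gam_inv hm]
    exact (B.cs_mul_inv hm').symm

/-- The matrices commuting past `Z` inside `H`. -/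
def Kp : Subgroup M7 where
  carrier := {k | k ∈ B.imgSub ∧ ∃ k' ∈ B.imgSub, B.Gam k * B.Z = B.Z * B.Gam k'}
  one_mem' := ⟨B.imgSub.one_mem, 1, B.imgSub.one_mem, by rw [B.Gam_one, one_mul, mul_one]⟩
  mul_mem' := by
    rintro a b ⟨ha, a', ha', ea⟩ ⟨hb, b', hb', eb⟩
    refine ⟨B.imgSub.mul_mem ha hb, a' * b', B.imgSub.mul_mem ha' hb', ?_⟩
    rw [B.Gam_mul ha hb, B.Gam_mul ha' hb', mul_assoc, eb, ← mul_assoc, ea, mul_assoc]
  inv_mem' := by
    rintro a ⟨ha, a', ha', ea⟩
    refine ⟨B.imgSub.inv_mem ha, a'⁻¹, B.imgSub.inv_mem ha', ?_⟩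
    rw [B.Gam_inv ha, B.Gam_inv ha', inv_mul_eq_iff_eq_mul, ← mul_assoc, ea]
    simp [mul_assoc]

end Base

/-! ### Orders of subgroups -/

/-- Enumeration of a subgroup: `els` in increasing order, `tree` entries
`depth ≪ 24 | gen ≪ 16 | parent`, `tgt` the index of `els x * gens a` at `x * ng + a`. -/
structure SubCert where
  n : ℕ
  ng : ℕ
  one : ℕ
  els : List ℕ
  tree : List ℕ
  tgt : List ℕ

/-- Lookup in a chunked table. -/
noncomputable def look (w : ℕ) (chunks : List ℕ) (i : ℕ) : ℕ :=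
  getP w (chunks.getD (Nat.div i 256) 0) (Nat.mod i 256)

noncomputable def SubCert.el (S : SubCert) (x : ℕ) : ℕ := look 343 S.els x
noncomputable def SubCert.dep (S : SubCert) (x : ℕ) : ℕ := Nat.div (look 36 S.tree x) (2 ^ 24)
noncomputable def SubCert.gen (S : SubCert) (x : ℕ) : ℕ :=
  Nat.mod (Nat.div (look 36 S.tree x) (2 ^ 16)) 256
noncomputable def SubCert.par (S : SubCert) (x : ℕ) : ℕ := Nat.mod (look 36 S.tree x) (2 ^ 16)

noncomputable def SubCert.at' (S : SubCert) (gens : List ℕ) (x : ℕ) : Bool :=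
  cond (Nat.beq (S.dep x) 0) (Nat.beq (S.el x) one7)
    (Nat.blt (S.gen x) S.ng && Nat.blt (S.par x) S.n && Nat.blt (S.dep (S.par x)) (S.dep x) &&
      Nat.beq (S.el x) (mm (S.el (S.par x)) (gens.getD (S.gen x) one7))) &&
  (Nat.ble S.n (x + 1) || Nat.blt (S.el x) (S.el (x + 1))) &&
  allN S.ng (fun a => Nat.blt (look 16 S.tgt (Nat.add (Nat.mul x S.ng) a)) S.n &&
    Nat.beq (mm (S.el x) (gens.getD a one7))
      (S.el (look 16 S.tgt (Nat.add (Nat.mul x S.ng) a))))

theorem SubCert.dvd_card {S : SubCert} {gens : List ℕ} {T : Subgroup M7}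
    (hT : ∀ a < S.ng, Ok7 (gens.getD a one7) ∧ den (gens.getD a one7) ∈ T)
    (hone : (Nat.blt S.one S.n && Nat.beq (S.el S.one) one7) = true)
    (hat : ∀ x < S.n, S.at' gens x = true) : S.n ∣ Nat.card T := by
  have hmem : ∀ d x, x < S.n → S.dep x = d → Ok7 (S.el x) ∧
      den (S.el x) ∈ Subgroup.closure {m | ∃ a < S.ng, m = den (gens.getD a one7)} := by
    intro d
    induction d using Nat.strong_induction_on with
    | _ d ih =>
      intro x hx hd
      have h := hat x hx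
      simp only [SubCert.at', Bool.and_eq_true] at h
      cases hb : Nat.beq (S.dep x) 0
      · simp only [hb, cond_false, Bool.and_eq_true, Nat.blt_eq] at h
        obtain ⟨⟨⟨⟨⟨hg, hp⟩, hdd⟩, he⟩, -⟩, -⟩ := h
        obtain ⟨o1, o2⟩ := ih _ (hd ▸ hdd) _ hp rfl
        rw [Nat.eq_of_beq_eq_true he, den_mm o1 (hT _ hg).1]
        exact ⟨ok_mm o1 (hT _ hg).1,
          Subgroup.mul_mem _ o2 (Subgroup.subset_closure ⟨_, hg, rfl⟩)⟩
      · simp only [hb, cond_true] at h
        rw [Nat.eq_of_beq_eq_true h.1.1, den_one]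
        exact ⟨ok_one, Subgroup.one_mem _⟩
  simp only [Bool.and_eq_true, Nat.blt_eq] at hone
  have hlt : ∀ {x y : ℕ}, x < y → y < S.n → S.el x < S.el y := by
    intro x y hxy
    have hstep : ∀ z, z + 1 < S.n → S.el z < S.el (z + 1) := by
      intro z hz
      have h := hat z (by omega)
      simp only [SubCert.at', Bool.and_eq_true, Bool.or_eq_true, Nat.ble_eq, Nat.blt_eq] at h
      exact h.1.2.resolve_left (by omega)
    induction hxy with
    | refl => intro h; exact hstep _ h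
    | @step y hxy ih => intro h; exact (ih (by omega)).trans (hstep _ h)
  let f : Fin S.n → M7 := fun x => den (S.el x)
  have hinj : Function.Injective f := by
    intro x y e
    have e' := den_inj (hmem _ _ x.2 rfl).1 (hmem _ _ y.2 rfl).1 e
    rcases lt_trichotomy (x : ℕ) y with h | h | h
    · exact absurd e' (hlt h y.2).ne
    · exact Fin.ext h
    · exact absurd e' (hlt h x.2).ne'
  have hmul : ∀ (x : Fin S.n) (a : ℕ), a < S.ng → ∃ y, f x * den (gens.getD a one7) = f y := by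
    intro x a ha
    have h := hat x x.2
    simp only [SubCert.at', Bool.and_eq_true, allN_iff, Nat.blt_eq] at h
    obtain ⟨hy, he⟩ := h.2 a ha
    exact ⟨⟨_, hy⟩, by
      rw [← den_mm (hmem _ _ x.2 rfl).1 (hT _ ha).1, Nat.eq_of_beq_eq_true he]⟩
  set P := Subgroup.closure {m | ∃ a < S.ng, m = den (gens.getD a one7)} with hP
  have hrange : (P : Set M7) = Set.range f := by
    apply Set.Subset.antisymm
    · intro m hm
      have : P.toSubmonoid = Submonoid.closure {m | ∃ a < S.ng, m = den (gens.getD a one7)} :=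
        Subgroup.closure_toSubmonoid_of_finite
      rw [SetLike.mem_coe, ← Subgroup.mem_toSubmonoid, this] at hm
      induction hm using Submonoid.closure_induction_right with
      | one =>
        exact ⟨⟨S.one, hone.1⟩, by
          show den (S.el S.one) = 1
          rw [Nat.eq_of_beq_eq_true hone.2, den_one]⟩
      | mul_right m _ y hy ih =>
        obtain ⟨x, rfl⟩ := ih
        obtain ⟨a, ha, rfl⟩ := hy
        obtain ⟨z, hz⟩ := hmul x a ha
        exact ⟨z, hz.symm⟩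
    · rintro m ⟨x, rfl⟩
      exact (hmem _ _ x.2 rfl).2
  have hcard : Nat.card P = S.n := by
    show Nat.card (P : Set M7) = S.n
    rw [Nat.card_congr (Equiv.setCongr hrange), Nat.card_range_of_injective hinj, Nat.card_fin]
  rw [← hcard]
  refine Subgroup.card_dvd_of_le ((Subgroup.closure_le _).2 ?_)
  rintro m ⟨a, ha, rfl⟩
  exact (hT a ha).2

/-! ### Coverage -/

/-- Global tables: the points, their number, the codes of the objects and the base object. -/
structure ObjData where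
  pts : ℕ
  npt : ℕ
  n : ℕ
  codes : List ℕ
  ob0 : ℕ
  ltab : List ℕ

/-- The coverage certificate of one representative: roots (fact, inverse word), generators of the
stabiliser, their tables, and the forest `depth ≪ 24 | gen ≪ 16 | parent`. -/
structure OrbCert where
  roots : List (ℕ × List ℕ)
  gens : List (List (ℕ × Bool))
  tabs : List ℕ
  forest : List ℕ

noncomputable def ObjData.code (D : ObjData) (x : ℕ) : ℕ := look 72 D.codes x

noncomputable def ObjData.codesAt (D : ObjData) (x : ℕ) : Bool :=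
  codeOK D.npt (D.code x) && (Nat.ble D.n (x + 1) || Nat.blt (D.code x) (D.code (x + 1)))

/-- Moving a code along a word. -/
noncomputable def ObjData.along (D : ObjData) : List ℕ → ℕ → Bool × ℕ
  | [], x => (true, x)
  | a :: w, x => cond (Nat.blt a 8 && codeOK D.npt x)
      (D.along w (moveCode (D.ltab.getD a 0) x)) (false, x)

noncomputable def OrbCert.dep (O : OrbCert) (x : ℕ) : ℕ := Nat.div (look 36 O.forest x) (2 ^ 24)
noncomputable def OrbCert.gen (O : OrbCert) (x : ℕ) : ℕ :=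
  Nat.mod (Nat.div (look 36 O.forest x) (2 ^ 16)) 256
noncomputable def OrbCert.par (O : OrbCert) (x : ℕ) : ℕ := Nat.mod (look 36 O.forest x) (2 ^ 16)

noncomputable def OrbCert.at' (O : OrbCert) (D : ObjData) (x : ℕ) : Bool :=
  cond (Nat.beq (O.dep x) 0)
    (decide (O.gen x < O.roots.length) &&
      (D.along (O.roots.getD (O.gen x) (0, [])).2 D.ob0).1 &&
      Nat.beq (D.along (O.roots.getD (O.gen x) (0, [])).2 D.ob0).2 (D.code x))
    (decide (O.gen x < O.gens.length) && Nat.blt (O.par x) D.n &&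
      Nat.blt (O.dep (O.par x)) (O.dep x) &&
      Nat.beq (moveCode (O.tabs.getD (O.gen x) 0) (D.code (O.par x))) (D.code x))

/-- The roots are edges at representative `i`, with inverse words; generators are stabiliser words. -/
noncomputable def OrbCert.head (O : OrbCert) (ml : ℕ → ℕ) (C : Cert) (i : ℕ) : Bool :=
  O.roots.all (fun r => decide (r.1 < C.facts.length) && (C.fact r.1).edge &&
    Nat.beq (C.fact r.1).i i && vw r.2 && Nat.beq (mm (C.fact r.1).h (wmatL ml r.2)) one7) &&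
  O.gens.all (fun s => stabOK C C.facts.length i s)

/-- The hypotheses on the global tables. -/
structure ObjHold {G : Type*} [Group G] (B : Base G) (R : RData) (D : ObjData) : Prop where
  hn : D.npt ≤ 4096
  hpts : ptsOK D.pts D.npt = true
  hcodes : ∀ x < D.n, D.codesAt x = true
  hn0 : 19530 ≤ D.n
  hl : ∀ a < 8, tabOK D.pts D.npt (B.ml a) (D.ltab.getD a 0) = true
  hob : codeOK D.npt D.ob0 = true
  hfix : ∀ a < R.kin.length, (D.along (R.kin.getD a []) D.ob0).1 = true ∧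
    (D.along (R.kin.getD a []) D.ob0).2 = D.ob0

section Cover

variable {G : Type*} [Group G] {B : Base G} {R : RData} {g : ℕ → G} {C : Cert} {D : ObjData}

theorem along_sound (hD : ObjHold B R D) : ∀ (w : List ℕ) (x : ℕ), (D.along w x).1 = true →
    B.Img (wmatL B.ml w) ∧
      objC D.pts (D.along w x).2 = ac (objC D.pts x) (den (wmatL B.ml w)) := by
  intro w
  induction w with
  | nil =>
    intro x _
    refine ⟨B.img_one, ?_⟩
    show objC D.pts x = ac _ (den one7)
    rw [den_one, ac_one]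
  | cons a t ih =>
    intro x h
    cases hc : (Nat.blt a 8 && codeOK D.npt x)
    · simp [ObjData.along, hc] at h
    · simp only [ObjData.along, hc, cond_true] at h ⊢
      simp only [Bool.and_eq_true, Nat.blt_eq] at hc
      obtain ⟨t1, t2⟩ := ih _ h
      have hl : B.Img (B.ml a) :=
        ⟨B.ok a hc.1, _, (B.Gam_pair (B.letter_mem hc.1).1)⟩
      refine ⟨(B.img_mm hl t1).1, ?_⟩
      change _ = ac _ (den (mm (B.ml a) (wmatL B.ml t)))
      rw [t2, ← objC_move hD.hn hD.hpts (B.ok a hc.1) (hD.hl a hc.1) hc.2, ac_mul,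
        den_mm hl.1 t1.1]

variable (hR : RHold B R g) (hD : ObjHold B R D)
  (hF : ∀ f < C.facts.length, Holds B g (C.fact f))
include hR hD hF

omit hR hD in
theorem gens_sound {O : OrbCert} {i : ℕ} (hh : O.head B.ml C i = true) (a : ℕ)
    (ha : a < O.gens.length) :
    Ok7 (stabP C (O.gens.getD a [])) ∧ den (stabP C (O.gens.getD a [])) ∈ B.Tsub (g i) := by
  simp only [OrbCert.head, Bool.and_eq_true, List.all_eq_true] at hh
  have hs := hh.2 (O.gens.getD a []) (by
    rw [List.getD_eq_getElem _ _ ha]; exact List.getElem_mem ha)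
  obtain ⟨s1, s2⟩ := stabP_sound hF _ hs
  refine ⟨s1.1, s1.mem, ?_⟩
  rw [← B.gam_eq_Gam s1]; exact s2

omit hR hF in
theorem code_inj {x y : ℕ} (hx : x < D.n) (hy : y < D.n)
    (e : objC D.pts (D.code x) = objC D.pts (D.code y)) : x = y := by
  have hc : ∀ z < D.n, codeOK D.npt (D.code z) = true := fun z hz => by
    have := hD.hcodes z hz
    simp only [ObjData.codesAt, Bool.and_eq_true] at this
    exact this.1
  have hlt : ∀ {u v : ℕ}, u < v → v < D.n → D.code u < D.code v := by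
    have hstep : ∀ z, z + 1 < D.n → D.code z < D.code (z + 1) := by
      intro z hz
      have := hD.hcodes z (by omega)
      simp only [ObjData.codesAt, Bool.and_eq_true, Bool.or_eq_true, Nat.ble_eq,
        Nat.blt_eq] at this
      exact this.2.resolve_left (by omega)
    intro u v huv
    induction huv with
    | refl => intro h; exact hstep _ h
    | @step v huv ih => intro h; exact (ih (by omega)).trans (hstep _ h)
  have e' := objC_inj hD.hpts (hc x hx) (hc y hy) e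
  rcases lt_trichotomy x y with h | h | h
  · exact absurd e' (hlt h hy).ne
  · exact h
  · exact absurd e' (hlt h hx).ne'

omit hR in
theorem forest_sound {O : OrbCert} {i : ℕ} (hh : O.head B.ml C i = true)
    (htab : ∀ a < O.gens.length,
      tabOK D.pts D.npt (stabP C (O.gens.getD a [])) (O.tabs.getD a 0) = true)
    (hat : ∀ x < D.n, O.at' D x = true) :
    ∀ x < D.n, ∃ r ∈ O.roots, ∃ σ ∈ B.Tsub (g i),
      objC D.pts (D.code x) = ac (objC D.pts D.ob0) ((den (C.fact r.1).h)⁻¹ * σ) := by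
  intro x hx
  induction hd : O.dep x using Nat.strong_induction_on generalizing x with
  | _ d ih =>
    have h := hat x hx
    cases hb : Nat.beq (O.dep x) 0
    · simp only [OrbCert.at', hb, cond_false, Bool.and_eq_true, decide_eq_true_eq,
        Nat.blt_eq] at h
      obtain ⟨⟨⟨hg, hp⟩, hdd⟩, he⟩ := h
      obtain ⟨r, hr, σ, hσ, e⟩ := ih _ (hd ▸ hdd) _ hp rfl
      obtain ⟨g1, g2⟩ := gens_sound hF hh _ hg
      have hcp : codeOK D.npt (D.code (O.par x)) = true := by
        have := hD.hcodes _ hp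
        simp only [ObjData.codesAt, Bool.and_eq_true] at this
        exact this.1
      refine ⟨r, hr, σ * den (stabP C (O.gens.getD (O.gen x) [])), Subgroup.mul_mem _ hσ g2, ?_⟩
      rw [← Nat.eq_of_beq_eq_true he, ← objC_move hD.hn hD.hpts g1 (htab _ hg) hcp, e, ac_mul,
        mul_assoc]
    · simp only [OrbCert.at', hb, cond_true, Bool.and_eq_true, decide_eq_true_eq] at h
      obtain ⟨⟨hg, ha⟩, he⟩ := h
      obtain ⟨a1, a2⟩ := along_sound hD _ _ ha
      have hr : O.roots.getD (O.gen x) (0, []) ∈ O.roots := by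
        rw [List.getD_eq_getElem _ _ hg]; exact List.getElem_mem hg
      simp only [OrbCert.head, Bool.and_eq_true, List.all_eq_true, decide_eq_true_eq] at hh
      obtain ⟨⟨⟨⟨hlt, hed⟩, -⟩, hv⟩, hone⟩ := hh.1 _ hr
      obtain ⟨e1, -, -⟩ := holds_edge (hF _ hlt) hed
      refine ⟨_, hr, 1, Subgroup.one_mem _, ?_⟩
      rw [← Nat.eq_of_beq_eq_true he, a2, mul_one]
      congr 1
      refine eq_inv_of_mul_eq_one_right ?_
      rw [← den_mm e1.1 a1.1, Nat.eq_of_beq_eq_true hone, den_one]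

theorem cover {O : OrbCert} {i : ℕ} (hh : O.head B.ml C i = true)
    (htab : ∀ a < O.gens.length,
      tabOK D.pts D.npt (stabP C (O.gens.getD a [])) (O.tabs.getD a 0) = true)
    (hat : ∀ x < D.n, O.at' D x = true)
    (hK : 300000 ≤ Nat.card (Subgroup.closure
      {k | ∃ a < R.kin.length, k = den (wmatL B.ml (R.kin.getD a []))} : Subgroup M7))
    {m : M7} (hm : m ∈ B.imgSub) :
    ∃ f < C.facts.length, (C.fact f).edge = true ∧
      ∃ k ∈ B.imgSub, B.cs (g i * B.Gam m * B.Z) =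
        B.cs (g (C.fact f).j * B.Gam (den (C.fact f).w * k)) := by
  set K : Subgroup M7 := Subgroup.closure
    {k | ∃ a < R.kin.length, k = den (wmatL B.ml (R.kin.getD a []))} with hKdef
  have hKp : K ≤ B.Kp := by
    refine (Subgroup.closure_le _).2 ?_
    rintro k ⟨a, -, rfl⟩
    obtain ⟨a1, a2⟩ := B.img_word (hR.vkin a)
    obtain ⟨b1, b2⟩ := B.img_word (hR.vkimg a)
    refine ⟨a1.mem, _, b1.mem, ?_⟩
    rw [← B.gam_eq_Gam a1, ← B.gam_eq_Gam b1, a2, b2]
    exact hR.hK a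
  letI : MulAction ↥B.imgSub Obj :=
    { smul := fun k X => ac X ((k : M7))⁻¹
      one_smul := fun X => by
        show ac X ((1 : ↥B.imgSub) : M7)⁻¹ = X
        rw [Subgroup.coe_one, inv_one, ac_one]
      mul_smul := fun a b X => by
        show ac X ((a * b : ↥B.imgSub) : M7)⁻¹ = ac (ac X (b : M7)⁻¹) (a : M7)⁻¹
        rw [ac_mul, Subgroup.coe_mul, mul_inv_rev] }
  have hsm : ∀ (k : ↥B.imgSub) (X : Obj), k • X = ac X (k : M7)⁻¹ := fun _ _ => rfl
  set X₀ := objC D.pts D.ob0 with hX₀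
  set St := MulAction.stabilizer (↥B.imgSub) X₀ with hSt
  have hKfix : ∀ k ∈ K, ac X₀ k = X₀ := by
    let F : Subgroup M7 :=
      { carrier := {k | ac X₀ k = X₀}
        one_mem' := ac_one _
        mul_mem' := fun {a b} (ha : ac X₀ a = X₀) (hb : ac X₀ b = X₀) => by
          show ac X₀ (a * b) = X₀
          rw [← ac_mul, ha, hb]
        inv_mem' := fun {a} (ha : ac X₀ a = X₀) => by
          show ac X₀ a⁻¹ = X₀
          conv_lhs => rw [← ha, ac_mul, mul_inv_cancel, ac_one] }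
    have hle : K ≤ F := by
      refine (Subgroup.closure_le _).2 ?_
      rintro k ⟨a, ha, rfl⟩
      obtain ⟨h1, h2⟩ := hD.hfix a ha
      obtain ⟨-, e⟩ := along_sound hD _ _ h1
      show ac X₀ _ = X₀
      rw [← e, h2]
    exact fun k hk => hle hk
  have hKimg : K ≤ B.imgSub := fun k hk => (hKp hk).1
  have hKSt : K.subgroupOf B.imgSub ≤ St := by
    intro k hk
    rw [MulAction.mem_stabilizer_iff, hsm]
    exact hKfix _ (K.inv_mem hk)
  have hSoF := forest_sound hD hF hh htab hat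
  have hroots : ∀ r ∈ O.roots, den (C.fact r.1).h ∈ B.imgSub ∧
      r.1 < C.facts.length ∧ (C.fact r.1).edge = true ∧ (C.fact r.1).i = i := by
    intro r hr
    simp only [OrbCert.head, Bool.and_eq_true, List.all_eq_true, decide_eq_true_eq] at hh
    obtain ⟨⟨⟨⟨hlt, hed⟩, hi⟩, -⟩, -⟩ := hh.1 _ hr
    exact ⟨(holds_edge (hF _ hlt) hed).1.mem, hlt, hed, Nat.eq_of_beq_eq_true hi⟩
  have hinOrb : ∀ x : Fin D.n, objC D.pts (D.code x) ∈ MulAction.orbit (↥B.imgSub) X₀ := by
    intro x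
    obtain ⟨r, hr, σ, hσ, e⟩ := hSoF x x.2
    have hmem : (den (C.fact r.1).h)⁻¹ * σ ∈ B.imgSub :=
      B.imgSub.mul_mem (B.imgSub.inv_mem (hroots r hr).1) hσ.1
    exact ⟨⟨_, hmem⟩⁻¹, by
      show ac X₀ (((⟨_, hmem⟩ : ↥B.imgSub)⁻¹ : ↥B.imgSub) : M7)⁻¹ = _
      rw [Subgroup.coe_inv, inv_inv, e]⟩
  let F : Fin D.n → MulAction.orbit (↥B.imgSub) X₀ := fun x => ⟨_, hinOrb x⟩
  have hFinj : Function.Injective F := fun x y e =>
    Fin.ext (code_inj hD x.2 y.2 (congrArg Subtype.val e))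
  have horb : Nat.card (MulAction.orbit (↥B.imgSub) X₀) * Nat.card St ≤ 5859000000 := by
    rw [← Nat.card_prod, ← Nat.card_congr (MulAction.orbitProdStabilizerEquivGroup
      (↥B.imgSub) X₀).symm]
    exact B.cardImg
  have hn := Nat.card_le_card_of_injective F hFinj
  rw [Nat.card_fin] at hn
  have hKc : Nat.card (K.subgroupOf B.imgSub) = Nat.card K :=
    Nat.card_congr (Subgroup.subgroupOfEquivOfLe hKimg).toEquiv
  have hSt300 : 300000 ≤ Nat.card St :=
    le_trans (hKc ▸ hK) (Subgroup.card_le_of_le hKSt)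
  have horbN : Nat.card (MulAction.orbit (↥B.imgSub) X₀) = D.n := by
    refine le_antisymm ?_ hn
    have h1 := hD.hn0
    nlinarith
  have hStle : Nat.card St ≤ 300000 := by
    have h1 := hD.hn0
    rw [horbN] at horb
    nlinarith
  have hStK : St = K.subgroupOf B.imgSub :=
    (Subgroup.eq_of_le_of_card_ge hKSt (by rw [hKc]; omega)).symm
  obtain ⟨x, hx⟩ := (Function.Injective.bijective_of_nat_card_le hFinj
    (by rw [horbN, Nat.card_fin])).2
    ⟨(⟨m, hm⟩ : ↥B.imgSub) • X₀, MulAction.mem_orbit _ _⟩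
  have hx' : objC D.pts (D.code x) = ac X₀ m⁻¹ := congrArg Subtype.val hx
  obtain ⟨r, hr, σ, hσ, e⟩ := hSoF x x.2
  obtain ⟨h1, hlt, hed, hi⟩ := hroots r hr
  set h := den (C.fact r.1).h with hh'
  have hk : h⁻¹ * σ * m ∈ B.imgSub :=
    B.imgSub.mul_mem (B.imgSub.mul_mem (B.imgSub.inv_mem h1) hσ.1) hm
  have hkK : h⁻¹ * σ * m ∈ K := by
    have hst : (⟨_, hk⟩ : ↥B.imgSub)⁻¹ ∈ St := by
      rw [MulAction.mem_stabilizer_iff, hsm, Subgroup.coe_inv, inv_inv]
      rw [← ac_mul, ← e, hx', ac_mul, inv_mul_cancel, ac_one]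
    rw [hStK, Subgroup.mem_subgroupOf, Subgroup.coe_inv] at hst
    exact K.inv_mem_iff.1 hst
  obtain ⟨-, k', hk', ek⟩ := hKp hkK
  obtain ⟨e1, e2, e3⟩ := holds_edge (hF _ hlt) hed
  refine ⟨r.1, hlt, hed, k', hk', ?_⟩
  have hm' : m = σ⁻¹ * (h * (h⁻¹ * σ * m)) := by group
  have hσi : σ⁻¹ ∈ B.Tsub (g i) := Subgroup.inv_mem _ hσ
  rw [hi, B.gam_eq_Gam e1, B.gam_eq_Gam e2, ← hh'] at e3
  conv_lhs => rw [hm']
  rw [B.Gam_mul hσi.1 (B.imgSub.mul_mem h1 hk), B.Gam_mul h1 hk, ← mul_assoc, mul_assoc _ _ B.Z,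
    B.cs_mul hσi.2, mul_assoc, ek, ← mul_assoc, ← mul_assoc, B.cs_mul e3,
    B.Gam_mul e2.mem hk', mul_assoc]

end Cover

/-! ### The index bound -/

section Final

variable {G : Type*} [Group G] (B : Base G) (g : ℕ → G)

/-- The cosets in the `H`-orbit of `H gᵢ`. -/
def orbC (i : ℕ) : Set (G ⧸ B.H) :=
  Set.range fun m : ↥B.imgSub => B.cs (g i * B.Gam (m : M7))

theorem card_orbC (i n : ℕ) (hT : n ≤ Nat.card (B.Tsub (g i))) :
    (orbC B g i).Finite ∧ Nat.card (orbC B g i) * n ≤ 5859000000 := by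
  set T := (B.Tsub (g i)).subgroupOf B.imgSub with hTdef
  have hTle : B.Tsub (g i) ≤ B.imgSub := fun m hm => hm.1
  let F : ↥B.imgSub ⧸ T → G ⧸ B.H :=
    Quotient.lift (fun m : ↥B.imgSub => B.cs (g i * B.Gam ((m : M7))⁻¹)) (by
      intro a b hab
      have hab' : a⁻¹ * b ∈ T := QuotientGroup.leftRel_apply.1 hab
      have ht : ((a : M7))⁻¹ * (b : M7) ∈ B.Tsub (g i) := by
        simpa [hTdef, Subgroup.mem_subgroupOf] using hab'
      show B.cs (g i * B.Gam (a : M7)⁻¹) = B.cs (g i * B.Gam (b : M7)⁻¹)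
      have e : ((a : M7))⁻¹ = ((a : M7)⁻¹ * (b : M7)) * (b : M7)⁻¹ := by group
      conv_lhs => rw [e]
      rw [B.Gam_mul ht.1 (B.imgSub.inv_mem b.2), ← mul_assoc, B.cs_mul ht.2])
  have hsub : orbC B g i ⊆ Set.range F := by
    rintro _ ⟨m, rfl⟩
    refine ⟨QuotientGroup.mk m⁻¹, ?_⟩
    show B.cs (g i * B.Gam (((m⁻¹ : ↥B.imgSub) : M7))⁻¹) = _
    rw [Subgroup.coe_inv, inv_inv]
  refine ⟨(Set.finite_range F).subset hsub, ?_⟩
  have h1 : Nat.card (orbC B g i) ≤ Nat.card (↥B.imgSub ⧸ T) :=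
    (Nat.card_mono (Set.finite_range F) hsub).trans (Finite.card_range_le F)
  have h2 : Nat.card (↥B.imgSub ⧸ T) * Nat.card (B.Tsub (g i)) = Nat.card ↥B.imgSub := by
    rw [← Nat.card_congr (Subgroup.subgroupOfEquivOfLe hTle).toEquiv,
      ← Subgroup.card_eq_card_quotient_mul_card_subgroup]
  calc Nat.card (orbC B g i) * n
      ≤ Nat.card (↥B.imgSub ⧸ T) * Nat.card (B.Tsub (g i)) := Nat.mul_le_mul h1 hT
    _ = Nat.card ↥B.imgSub := h2
    _ ≤ 5859000000 := B.cardImg

/-- The union of the orbits contains every coset. -/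
theorem orbC_cover (hg : g 0 = 1) (N : ℕ) (hN : 0 < N) (uI : List ℕ) (hv : vw uI = true)
    (hinv : B.Z⁻¹ = B.Z * B.wg uI)
    (hgen : Subgroup.closure (insert B.Z {x | ∃ a < 8, x = B.gl a}) = ⊤)
    (hZ : ∀ i < N, ∀ m ∈ B.imgSub, ∃ j < N, ∃ k ∈ B.imgSub,
      B.cs (g i * B.Gam m * B.Z) = B.cs (g j * B.Gam k)) (y : G ⧸ B.H) :
    ∃ i < N, y ∈ orbC B g i := by
  suffices h : ∀ x : G, ∃ i < N, ∃ m ∈ B.imgSub, B.cs x = B.cs (g i * B.Gam m) by
    induction y using QuotientGroup.induction_on with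
    | _ x =>
      obtain ⟨i, hi, m, hm, e⟩ := h x⁻¹
      refine ⟨i, hi, ⟨m, hm⟩, e.symm.trans ?_⟩
      simp [Base.cs]
  intro x
  have hx : x ∈ Subgroup.closure (insert B.Z {x | ∃ a < 8, x = B.gl a}) := hgen ▸ Subgroup.mem_top x
  induction hx using Subgroup.closure_induction_right with
  | one => exact ⟨0, hN, 1, B.imgSub.one_mem, by rw [hg, B.Gam_one, mul_one]⟩
  | mul_right x _ t ht ih =>
    obtain ⟨i, hi, m, hm, e⟩ := ih
    rw [B.cs_mul e t]
    rcases ht with rfl | ⟨a, ha, rfl⟩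
    · exact hZ i hi m hm
    · obtain ⟨l1, l2⟩ := B.letter_mem ha
      refine ⟨i, hi, _, B.imgSub.mul_mem hm l1, ?_⟩
      rw [B.Gam_mul hm l1, l2, mul_assoc]
  | mul_inv_cancel x _ t ht ih =>
    obtain ⟨i, hi, m, hm, e⟩ := ih
    rw [B.cs_mul e t⁻¹]
    rcases ht with rfl | ⟨a, ha, rfl⟩
    · obtain ⟨j, hj, k, hk, e'⟩ := hZ i hi m hm
      obtain ⟨u1, u2⟩ := B.img_word hv
      refine ⟨j, hj, _, B.imgSub.mul_mem hk u1.mem, ?_⟩
      rw [hinv, ← mul_assoc, B.cs_mul e', B.Gam_mul hk u1.mem, ← B.gam_eq_Gam u1, u2, mul_assoc]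
    · obtain ⟨l1, l2⟩ := B.letter_mem ha
      refine ⟨i, hi, _, B.imgSub.mul_mem hm (B.imgSub.inv_mem l1), ?_⟩
      rw [B.Gam_mul hm (B.imgSub.inv_mem l1), B.Gam_inv l1, l2, mul_assoc]

end Final

end Cfsg.Agent.H34.Ly
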