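import Cfsg.Agent.H34.Ly.RelData
import Cfsg.Agent.H34.Ly.CertData
import Cfsg.Agent.H27.LyG2.Seven

/-!
The relations of the presented Lyons group in the form used by the certificate, and the base data.
-/

set_option autoImplicit false
set_option maxRecDepth 100000

namespace Cfsg.Agent.H34.Ly

open Cfsg.Spor
open Cfsg.Agent.Compute
open Cfsg.Agent.H27

/-- The presented Lyons group. -/
abbrev GY : Type := Cfsg.Spor.Ly

/-- The quotient map. -/
abbrev mkY : FreeGroup Ly.Gen →* GY :=
  PresentedGroup.mk (coxRelators Ly.edges ∪ {r | r ∈ Ly.extra})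

/-- The five generators. -/
def psi : Fin 5 → GY :=
  ![PresentedGroup.of Ly.Gen.a, PresentedGroup.of Ly.Gen.b, PresentedGroup.of Ly.Gen.c,
    PresentedGroup.of Ly.Gen.d, PresentedGroup.of Ly.Gen.z]

/-- Evaluation of free words in the five generators. -/
noncomputable def evY : FreeGroup (Fin 5) →* GY := FreeGroup.lift psi

/-- A letter as a free word: `0..3` for `a..d`, `4..7` their inverses, `8`, `9` for `z`, `z⁻¹`. -/
def fl : ℕ → FreeGroup (Fin 5)
  | 0 => FreeGroup.of 0
  | 1 => FreeGroup.of 1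
  | 2 => FreeGroup.of 2
  | 3 => FreeGroup.of 3
  | 4 => (FreeGroup.of 0)⁻¹
  | 5 => (FreeGroup.of 1)⁻¹
  | 6 => (FreeGroup.of 2)⁻¹
  | 7 => (FreeGroup.of 3)⁻¹
  | 8 => FreeGroup.of 4
  | 9 => (FreeGroup.of 4)⁻¹
  | _ => 1

/-- A word as a free word. -/
def fw (w : List ℕ) : FreeGroup (Fin 5) := (w.map fl).prod

/-- Substitution of the auxiliary generators. -/
def tau : FreeGroup Ly.Gen →* FreeGroup (Fin 5) := FreeGroup.lift fun x => fw (tauL x)

/-- `c1` read as `c`, `c2` as `a⁻¹ c a`. -/
def tau0 : FreeGroup Ly.Gen →* FreeGroup Ly.Gen :=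
  FreeGroup.lift fun
    | Ly.Gen.c1 => FreeGroup.of Ly.Gen.c
    | Ly.Gen.c2 => (FreeGroup.of Ly.Gen.a)⁻¹ * FreeGroup.of Ly.Gen.c * FreeGroup.of Ly.Gen.a
    | x => FreeGroup.of x

/-- The five generators inside the printed ones. -/
def iota : FreeGroup (Fin 5) →* FreeGroup Ly.Gen :=
  FreeGroup.lift ![FreeGroup.of Ly.Gen.a, FreeGroup.of Ly.Gen.b, FreeGroup.of Ly.Gen.c,
    FreeGroup.of Ly.Gen.d, FreeGroup.of Ly.Gen.z]

theorem mk_tau0 (x : FreeGroup Ly.Gen) : mkY (tau0 x) = mkY x := by
  have h1 : mkY (FreeGroup.of Ly.Gen.c1) = mkY (FreeGroup.of Ly.Gen.c) := by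
    have h := LyG2.mk_extra 5
    rw [show Ly.extra.getD 5 1 = Ly.c1 * Ly.c⁻¹ from rfl, map_mul, map_inv] at h
    exact mul_inv_eq_one.mp h
  have h2 : mkY (FreeGroup.of Ly.Gen.c2) =
      mkY ((FreeGroup.of Ly.Gen.a)⁻¹ * FreeGroup.of Ly.Gen.c * FreeGroup.of Ly.Gen.a) := by
    have h := LyG2.mk_extra 6
    rw [show Ly.extra.getD 6 1 = Ly.c2 * (Ly.a⁻¹ * Ly.c * Ly.a)⁻¹ from rfl, map_mul, map_inv] at h
    exact mul_inv_eq_one.mp h
  have h : mkY.comp tau0 = mkY := by
    ext g
    cases g <;> first | exact h1.symm | exact h2.symm | rfl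
  exact DFunLike.congr_fun h x

theorem mk_iota (y : FreeGroup (Fin 5)) : mkY (iota y) = evY y := by
  have h : mkY.comp iota = evY := by
    ext g
    fin_cases g <;> rfl
  exact DFunLike.congr_fun h y

/-- A printed generator is one of the five or follows from its defining relation. -/
def genOK (x : Ly.Gen) : Bool :=
  decide (x = Ly.Gen.a) || decide (x = Ly.Gen.b) || decide (x = Ly.Gen.c) || decide (x = Ly.Gen.d) ||
    decide (x = Ly.Gen.z) ||
    decide (tau0 ((Ly.extra.getD (defIdx x) 1)⁻¹ * FreeGroup.of x) = iota (tau (FreeGroup.of x)))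

theorem gens_ok : allGens.all genOK = true := by decide +kernel

theorem of_eq (x : Ly.Gen) : (PresentedGroup.of x : GY) = evY (tau (FreeGroup.of x)) := by
  have hx : x ∈ allGens := by cases x <;> simp [allGens]
  have h := List.all_eq_true.mp gens_ok x hx
  simp only [genOK, Bool.or_eq_true, decide_eq_true_eq] at h
  rcases h with ((((rfl | rfl) | rfl) | rfl) | rfl) | h
  iterate 5 simp [tau, tauL, fw, fl, evY, psi]
  rw [← mk_iota, ← h, mk_tau0, map_mul, map_inv, LyG2.mk_extra, inv_one, one_mul]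
  rfl

theorem mk_eq (r : FreeGroup Ly.Gen) : mkY r = evY (tau r) := by
  have h : mkY = evY.comp tau := FreeGroup.ext_hom _ _ fun x => of_eq x
  exact DFunLike.congr_fun h r

theorem ev_rel (n : ℕ) : evY (tau (Ly.extra.getD n 1)) = 1 := by
  rw [← mk_eq, LyG2.mk_extra]

/-- A word is a conjugate of a relator or of its inverse. -/
def conjOK (e : FreeGroup (Fin 5)) (n : ℕ) (c : List ℕ) (i : Bool) : Bool :=
  decide (e = fw c * cond i (tau (Ly.extra.getD n 1))⁻¹ (tau (Ly.extra.getD n 1)) * (fw c)⁻¹)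

theorem conj_eq_one {e : FreeGroup (Fin 5)} {n : ℕ} {c : List ℕ} {i : Bool}
    (h : conjOK e n c i = true) : evY e = 1 := by
  rw [of_decide_eq_true h]
  cases i <;> rw [map_mul, map_mul, map_inv] <;>
    simp only [cond_true, cond_false, map_inv, ev_rel, inv_one, mul_one, mul_inv_cancel]

/-- The letters of `H` as elements. -/
noncomputable def glY (i : ℕ) : GY := evY (fl i)

/-- The numbers of these letters in the nine-generator list. -/
def h27 : ℕ → ℕ
  | 0 => 0
  | 1 => 2
  | 2 => 4
  | 3 => 14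
  | 4 => 1
  | 5 => 3
  | 6 => 5
  | _ => 15

theorem glY_eq (i : ℕ) (hi : i < 8) : glY i = LyG2.lett LyG2.flY (h27 i) := by
  interval_cases i <;>
    simp [glY, fl, evY, psi, h27, LyG2.lett, LyG2.flY, LyG2.lyOf]

theorem mlY_eq : ((List.range 8).all fun i =>
    Nat.beq (mlY i) (Cfsg.Agent.Compute.nth LyG2.Seven.o.one LyG2.Data.gens7 (h27 i))) = true := by
  decide +kernel

theorem mlY_den (i : ℕ) (hi : i < 8) :
    Ok7 (mlY i) ∧ den (mlY i) = LyG2.lett LyG2.Seven.f (h27 i) := by
  have e := Nat.eq_of_beq_eq_true (List.all_eq_true.mp mlY_eq i (List.mem_range.mpr hi))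
  rw [e]
  unfold Ok7 den
  exact ⟨LyG2.Seven.gen_ok _, (LyG2.Seven.lett_f _).symm⟩

theorem glY_mem (i : ℕ) (hi : i < 8) : glY i ∈ LyG2.H4 := by
  have h : ∀ x ∈ ({Ly.a, Ly.b, Ly.c, Ly.d} : Set (FreeGroup Ly.Gen)), mkY x ∈ LyG2.H4 :=
    fun x hx => Subgroup.mem_map_of_mem _ (Subgroup.subset_closure hx)
  have ha := h Ly.a (by simp)
  have hb := h Ly.b (by simp)
  have hc := h Ly.c (by simp)
  have hd := h Ly.d (by simp)
  interval_cases i <;> simp only [glY, fl, evY, map_inv, FreeGroup.lift_apply_of, inv_mem_iff] <;>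
    assumption

open Cfsg.Agent.H27.LyG2 in
theorem pairs_le :
    pairsOf glY mlY ≤ ((toK flY_holds).prod (toK Seven.holds)).range := by
  refine (Subgroup.closure_le _).2 ?_
  rintro p ⟨i, hi, rfl⟩
  refine ⟨lett kgen (h27 i), ?_⟩
  rw [MonoidHom.prod_apply, glY_eq i hi, (mlY_den i hi).2, map_lett, map_lett]
  simp only [toK_of]

/-- The base data of the presented Lyons group over `⟨a, b, c, d⟩`. -/
noncomputable def baseY : Base GY where
  H := LyG2.H4
  Z := evY (fl 8)
  gl := glY
  ml := mlY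
  gl_mem := glY_mem
  ok i hi := (mlY_den i hi).1
  injL g hg := by
    obtain ⟨k, hk⟩ := pairs_le hg
    rw [MonoidHom.prod_apply] at hk
    have h1 := congrArg Prod.fst hk
    have h2 := congrArg Prod.snd hk
    simp only at h1 h2
    have hk1 : k = 1 := LyG2.Seven.hom_injective (by rw [h2, map_one])
    rw [← h1, hk1, map_one]
  cardImg := by
    obtain ⟨hfin, hle⟩ := LyG2.card_K44
    have h : (pairsOf glY mlY).map (MonoidHom.snd GY M7) ≤
        (LyG2.toK LyG2.Seven.holds).range := by
      rintro m ⟨p, hp, rfl⟩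
      obtain ⟨k, rfl⟩ := pairs_le hp
      exact ⟨k, rfl⟩
    have hs := (LyG2.toK LyG2.Seven.holds).rangeRestrict_surjective
    haveI : Finite (LyG2.toK LyG2.Seven.holds).range := Finite.of_surjective _ hs
    exact (Subgroup.card_le_of_le h).trans ((Nat.card_le_card_of_surjective _ hs).trans hle)

theorem wg_eq (w : List ℕ) : baseY.wg w = evY (fw w) := by
  induction w with
  | nil => simp [Base.wg, fw]
  | cons a t ih =>
    show glY a * baseY.wg t = _
    rw [ih, show fw (a :: t) = fl a * fw t by simp [fw], map_mul]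
    rfl

/-- Replacing `z⁻¹` by `z u⁻¹`. -/
def pz (a : ℕ) : List ℕ := cond (Nat.beq a 9) (8 :: rdata.uI) [a]

theorem u_ok : (conjOK (fw (8 :: 8 :: rdata.uI)) 80 [] false &&
    decide (fw rdata.uI = (fw rdata.uW)⁻¹) && vw rdata.uW && vw rdata.uI) = true := by
  decide +kernel

theorem hUY : baseY.Z * baseY.Z = baseY.wg rdata.uW := by
  have h := u_ok
  simp only [Bool.and_eq_true, decide_eq_true_eq] at h
  have e := conj_eq_one h.1.1.1
  simp only [fw, List.map_cons, List.prod_cons, map_mul] at e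
  rw [show (List.map fl rdata.uI).prod = fw rdata.uI from rfl, h.1.1.2, map_inv, ← mul_assoc,
    mul_inv_eq_one] at e
  rw [wg_eq]
  exact e

theorem zinv : evY (fl 9) = baseY.Z * baseY.wg rdata.uI := by
  have h := u_ok
  simp only [Bool.and_eq_true, decide_eq_true_eq] at h
  rw [wg_eq, h.1.1.2, map_inv, ← wg_eq, ← hUY, show fl 9 = (fl 8)⁻¹ from rfl, map_inv,
    mul_inv_rev, mul_inv_cancel_left]
  rfl

theorem ev_pz (w : List ℕ) : evY (fw (w.flatMap pz)) = evY (fw w) := by
  induction w with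
  | nil => rfl
  | cons a t ih =>
    have happ : ∀ u v : List ℕ, fw (u ++ v) = fw u * fw v := by simp [fw]
    rw [List.flatMap_cons, happ, map_mul, ih,
      show fw (a :: t) = fl a * fw t by simp [fw], map_mul]
    congr 1
    unfold pz
    cases hb : Nat.beq a 9
    · simp [fw]
    · rw [cond_true, Nat.eq_of_beq_eq_true hb, zinv, wg_eq,
        show fw (8 :: rdata.uI) = fl 8 * fw rdata.uI by simp [fw], map_mul]
      rfl

theorem segProd_eq (S : List (List ℕ)) :
    segProd baseY S = evY (fw (S.flatMap fun s => 8 :: s)) := by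
  induction S with
  | nil => simp [segProd, fw]
  | cons s t ih =>
    show baseY.Z * baseY.wg s * segProd baseY t = _
    have : fw ((s :: t).flatMap fun s => 8 :: s) =
        fl 8 * fw s * fw (t.flatMap fun s => 8 :: s) := by
      simp [fw, mul_assoc]
    rw [this, ih, wg_eq, map_mul, map_mul]
    rfl

/-- The check of one rotated relator against the segments. -/
def segsOK (k : ℕ) : Bool :=
  let d := relRot.getD k (0, [], [])
  conjOK (fw d.2.2) d.1 d.2.1 false &&
    decide (d.2.2.flatMap pz = (rdata.segs.getD k []).flatMap fun s => 8 :: s)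

theorem segs_ok : (List.range rdata.segs.length).all segsOK = true := by decide +kernel

/-- The check of one conjugation relation. -/
def kinOK (k : ℕ) : Bool :=
  let d := kConj.getD k (0, [], false)
  vw (rdata.kin.getD k []) && vw (rdata.kimg.getD k []) &&
    conjOK (fw (rdata.kin.getD k []) * fl 8 * (fw (rdata.kimg.getD k []))⁻¹ * (fl 8)⁻¹)
      d.1 d.2.1 d.2.2

theorem kin_ok : ((List.range 16).all kinOK && decide (rdata.kin.length = 16) &&
    decide (rdata.kimg.length = 16)) = true := by decide +kernel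

/-- The representatives. -/
noncomputable def gY (i : ℕ) : GY :=
  if i = 0 then 1 else if i = 1 then baseY.Z
    else baseY.Z * baseY.wg ((rdata.defs.getD (i - 2) (0, 0, [])).2.2) * baseY.Z

theorem defs_ok : ((List.range rdata.defs.length).all fun k =>
    decide ((rdata.defs.getD k (0, 0, [])).1 = 1 ∧ (rdata.defs.getD k (0, 0, [])).2.1 = k + 2)) =
      true := by decide +kernel

theorem rholdY : RHold baseY rdata gY := by
  have hk := kin_ok
  simp only [Bool.and_eq_true, decide_eq_true_eq, List.all_eq_true, List.mem_range] at hk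
  obtain ⟨⟨hk, hlen⟩, hlen'⟩ := hk
  have hkk : ∀ k, vw (rdata.kin.getD k []) = true ∧ vw (rdata.kimg.getD k []) = true ∧
      baseY.wg (rdata.kin.getD k []) * baseY.Z = baseY.Z * baseY.wg (rdata.kimg.getD k []) := by
    intro k
    by_cases h : k < 16
    · have hk' := hk k h
      simp only [kinOK, Bool.and_eq_true] at hk'
      refine ⟨hk'.1.1, hk'.1.2, ?_⟩
      have e := conj_eq_one hk'.2
      simp only [map_mul, map_inv] at e
      rw [mul_inv_eq_one, mul_inv_eq_iff_eq_mul] at e
      rw [wg_eq, wg_eq]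
      exact e
    · rw [List.getD_eq_default _ _ (by omega), List.getD_eq_default _ _ (by omega)]
      refine ⟨rfl, rfl, ?_⟩
      rw [wg_eq]
      simp [fw]
  have hu := u_ok
  simp only [Bool.and_eq_true, decide_eq_true_eq] at hu
  refine ⟨fun k => (hkk k).1, fun k => (hkk k).2.1, ⟨hu.1.2, hu.2⟩, fun k => (hkk k).2.2, hUY,
    ?_, ?_, rfl, rfl, ?_⟩
  · rw [wg_eq, wg_eq, hu.1.1.2, map_inv]
  · intro r
    by_cases h : r < rdata.segs.length
    · have hs := List.all_eq_true.mp segs_ok r (List.mem_range.mpr h)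
      simp only [segsOK, Bool.and_eq_true, decide_eq_true_eq] at hs
      rw [segProd_eq, ← hs.2, ev_pz]
      exact conj_eq_one hs.1
    · rw [List.getD_eq_default _ _ (by omega)]
      rfl
  · intro d hd
    obtain ⟨k, hk', rfl⟩ := List.getElem_of_mem hd
    have h := List.all_eq_true.mp defs_ok k (List.mem_range.mpr hk')
    simp only [decide_eq_true_eq, List.getD_eq_getElem _ _ hk'] at h
    rw [h.1, h.2]
    simp [gY, List.getD_eq_getElem?_getD, List.getElem?_eq_getElem hk']

theorem gensY : Subgroup.closure (insert baseY.Z {x | ∃ a < 8, x = baseY.gl a}) = ⊤ := by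
  set K := Subgroup.closure (insert baseY.Z {x | ∃ a < 8, x = baseY.gl a})
  have hev : ∀ y, evY y ∈ K := by
    intro y
    induction y using FreeGroup.induction_on with
    | C1 => simp
    | of x =>
      fin_cases x
      · exact Subgroup.subset_closure (Or.inr ⟨0, by norm_num, rfl⟩)
      · exact Subgroup.subset_closure (Or.inr ⟨1, by norm_num, rfl⟩)
      · exact Subgroup.subset_closure (Or.inr ⟨2, by norm_num, rfl⟩)
      · exact Subgroup.subset_closure (Or.inr ⟨3, by norm_num, rfl⟩)
      · exact Subgroup.subset_closure (Or.inl rfl)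
    | inv_of x h => rw [map_inv]; exact K.inv_mem h
    | mul x y hx hy => rw [map_mul]; exact K.mul_mem hx hy
  refine eq_top_iff.2 ?_
  rw [← PresentedGroup.closure_range_of, Subgroup.closure_le]
  rintro _ ⟨x, rfl⟩
  rw [of_eq]
  exact hev _

end Cfsg.Agent.H34.Ly
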